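import Groth.Agent.L05.HensSch.Core

/-!
# Distinguished opens of two charts of a henselian scheme
-/

set_option autoImplicit false
set_option linter.style.haveILetI false
universe u

open CategoryTheory Opposite TopologicalSpace Topology AlgebraicGeometry IsLocalRing

namespace Groth.L05.HensSch

variable {A B : Type u} [CommRing A] [CommRing B]

theorem isUnit_germ_iff_fraction {I : Ideal A} {U : LocallyRingedSpace.{u}}
    {π : U ⟶ HensSch.specLRS A} (hU : HensSch.IsSph A I U π) (f : A)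
    (s : U.presheaf.obj (op (HensSch.dOpen π f))) {c : A} {n : ℕ}
    (hc : s * HensSch.secMap π (PrimeSpectrum.basicOpen f) f ^ n -
      HensSch.secMap π (PrimeSpectrum.basicOpen f) c ∈ I.map (HensSch.secMap π (PrimeSpectrum.basicOpen f)))
    (x : U) (hx : x ∈ HensSch.dOpen π f) :
    IsUnit (U.presheaf.germ _ x hx s) ↔ c ∉ (π.base x : PrimeSpectrum A).asIdeal := by
  rw [← isUnit_germ_secMap_iff π _ x hx c]
  let ev := (U.presheaf.germ (HensSch.dOpen π f) x hx).hom
  have hle : I.map (HensSch.secMap π (PrimeSpectrum.basicOpen f)) ≤ (maximalIdeal _).comap ev := by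
    rw [Ideal.map_le_iff_le_comap]
    intro a ha hu
    have hmem : π.base x ∈ PrimeSpectrum.zeroLocus (I : Set A) := hU.2.1 ▸ ⟨x, rfl⟩
    exact (isUnit_germ_secMap_iff π _ x hx a).mp hu (hmem ha)
  have h1 : ev s * ev (HensSch.secMap π _ f) ^ n - ev (HensSch.secMap π _ c) ∈ maximalIdeal _ := by
    rw [← map_pow, ← map_mul, ← map_sub]; exact hle hc
  have hf : IsUnit (ev (HensSch.secMap π (PrimeSpectrum.basicOpen f) f) ^ n) := ((hU.2.2 f).1.map ev).pow n
  show IsUnit (ev s) ↔ IsUnit (ev _)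
  constructor
  · intro hu
    by_contra hnc
    have h2 := add_mem h1 ((mem_maximalIdeal _).mpr hnc)
    rw [sub_add_cancel] at h2
    exact h2 (hu.mul hf)
  · intro hu
    by_contra hns
    have h2 : ev s * ev (HensSch.secMap π (PrimeSpectrum.basicOpen f) f) ^ n ∈ maximalIdeal _ :=
      Ideal.mul_mem_right _ _ ((mem_maximalIdeal _).mpr hns)
    have h3 := sub_mem h2 h1
    rw [sub_sub_cancel] at h3
    exact h3 hu

theorem exists_common_basicOpen {X U V : LocallyRingedSpace.{u}} (iU : U ⟶ X)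
    [hiU : LocallyRingedSpace.IsOpenImmersion iU] (iV : V ⟶ X) [hiV : LocallyRingedSpace.IsOpenImmersion iV]
    {I : Ideal A} {πU : U ⟶ HensSch.specLRS A} (hU : HensSch.IsSph A I U πU)
    {J : Ideal B} {πV : V ⟶ HensSch.specLRS B} (hV : HensSch.IsSph B J V πV)
    (x : X) (hxU : x ∈ Set.range iU.base) (hxV : x ∈ Set.range iV.base) :
    ∃ (f : A) (g : B), x ∈ iU.base '' (HensSch.dOpen πU f : Set U) ∧
      iU.base '' (HensSch.dOpen πU f : Set U) = iV.base '' (HensSch.dOpen πV g : Set V) := by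
  obtain ⟨u, rfl⟩ := hxU
  obtain ⟨v, hv⟩ := hxV
  -- a distinguished open of `U` around `u` inside the other chart
  have hRV : IsOpen (iU.base ⁻¹' Set.range iV.base) :=
    hiV.base_open.isOpen_range.preimage iU.base.hom.continuous
  obtain ⟨O₁, hO₁, hO₁'⟩ := hU.1.isInducing.isOpen_iff.mp hRV
  obtain ⟨_, ⟨f₀, rfl⟩, huf, hfO⟩ := PrimeSpectrum.isTopologicalBasis_basic_opens.exists_subset_of_mem_open
    (a := πU.base u) (by
      have h : u ∈ πU.base ⁻¹' O₁ := by rw [hO₁']; exact ⟨v, hv⟩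
      exact h) hO₁
  let W : Opens X := (LocallyRingedSpace.IsOpenImmersion.opensFunctor iU).obj (HensSch.dOpen πU f₀)
  have hWV : ∀ y ∈ W, y ∈ Set.range iV.base := by
    rintro _ ⟨u', hu', rfl⟩
    have h : u' ∈ πU.base ⁻¹' O₁ := hfO hu'
    rw [hO₁'] at h
    exact h
  have huW : iU.base u ∈ W := ⟨u, huf, rfl⟩
  -- a distinguished open of `V` around `v` inside it
  have hRU : IsOpen (iV.base ⁻¹' (W : Set X)) := W.isOpen.preimage iV.base.hom.continuous
  obtain ⟨O₂, hO₂, hO₂'⟩ := hV.1.isInducing.isOpen_iff.mp hRU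
  obtain ⟨_, ⟨g₀, rfl⟩, hvg, hgO⟩ := PrimeSpectrum.isTopologicalBasis_basic_opens.exists_subset_of_mem_open
    (a := πV.base v) (by
      have h : v ∈ πV.base ⁻¹' O₂ := by
        rw [hO₂']; show iV.base v ∈ W; rw [hv]; exact huW
      exact h) hO₂
  have hgW : ∀ v' ∈ HensSch.dOpen πV g₀, iV.base v' ∈ W := by
    intro v' hv'
    have h : v' ∈ πV.base ⁻¹' O₂ := hgO hv'
    rw [hO₂'] at h
    exact h
  -- the function `g₀` on `W`
  have hWimg : W = (LocallyRingedSpace.IsOpenImmersion.opensFunctor iV).obj ((Opens.map iV.base).obj W) := by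
    refine Opens.ext (Set.Subset.antisymm (fun y hy => ?_) ?_)
    · obtain ⟨v', rfl⟩ := hWV y hy
      exact ⟨v', hy, rfl⟩
    · rintro _ ⟨v', hv', rfl⟩
      exact hv'
  haveI : IsIso (iV.c.app (op W)) := PresheafedSpace.IsOpenImmersion.c_iso' iV.toHom _ hWimg
  let sV : V.presheaf.obj (op ((Opens.map iV.base).obj W)) :=
    (V.presheaf.map (homOfLE (le_top : (Opens.map iV.base).obj W ≤ (Opens.map πV.base).obj ⊤)).op).hom
      (HensSch.secMap πV ⊤ g₀)
  let t : X.presheaf.obj (op W) := (inv (iV.c.app (op W))).hom sV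
  have ht : ∀ (v' : V) (hv' : iV.base v' ∈ W),
      IsUnit (X.presheaf.germ W (iV.base v') hv' t) ↔ v' ∈ HensSch.dOpen πV g₀ := by
    intro v' hv'
    rw [← isUnit_germ_app_iff iV W v' hv' t,
      show (iV.c.app (op W)).hom t = sV from congrArg (fun k => k.hom sV) (IsIso.inv_hom_id (iV.c.app (op W)))]
    exact (Iff.of_eq (congrArg IsUnit (TopCat.Presheaf.germ_res_apply V.presheaf _ v' hv'
      (HensSch.secMap πV ⊤ g₀)))).trans (isUnit_germ_secMap_iff πV ⊤ v' trivial g₀)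
  -- as a fraction on `U`
  have hpre : (Opens.map iU.base).obj W = HensSch.dOpen πU f₀ :=
    Opens.ext (Set.preimage_image_eq _ hiU.base_open.injective)
  let sU : U.presheaf.obj (op (HensSch.dOpen πU f₀)) :=
    (U.presheaf.map (homOfLE hpre.ge).op).hom ((iU.c.app (op W)).hom t)
  obtain ⟨c, n, hc⟩ := exists_fraction (hU.2.2 f₀) sU
  have key : ∀ (u' : U) (hu' : u' ∈ HensSch.dOpen πU f₀),
      IsUnit (X.presheaf.germ W (iU.base u') ⟨u', hu', rfl⟩ t) ↔ u' ∈ HensSch.dOpen πU c := by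
    intro u' hu'
    rw [← isUnit_germ_app_iff iU W u' ⟨u', hu', rfl⟩ t]
    exact (Iff.of_eq (congrArg IsUnit (TopCat.Presheaf.germ_res_apply U.presheaf (homOfLE hpre.ge) u' hu' _))).symm.trans
      (isUnit_germ_iff_fraction hU f₀ sU hc u' hu')
  have hmul : ∀ u' : U, u' ∈ HensSch.dOpen πU (f₀ * c) ↔ u' ∈ HensSch.dOpen πU f₀ ∧ u' ∈ HensSch.dOpen πU c := by
    intro u'
    show πU.base u' ∈ PrimeSpectrum.basicOpen (f₀ * c) ↔ _
    rw [PrimeSpectrum.basicOpen_mul]
    exact Iff.rfl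
  have tr : ∀ y y' (h : y ∈ W) (h' : y' ∈ W), y = y' → IsUnit (X.presheaf.germ W y h t) →
      IsUnit (X.presheaf.germ W y' h' t) := by
    rintro y y' h h' rfl hu
    exact hu
  have heq : iU.base '' (HensSch.dOpen πU (f₀ * c) : Set U) = iV.base '' (HensSch.dOpen πV g₀ : Set V) := by
    ext y
    constructor
    · rintro ⟨u', hu', rfl⟩
      obtain ⟨h1, h2⟩ := (hmul u').mp hu'
      obtain ⟨v', hv'⟩ := hWV _ ⟨u', h1, rfl⟩
      refine ⟨v', (ht v' (by rw [hv']; exact ⟨u', h1, rfl⟩)).mp ?_, hv'⟩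
      exact tr _ _ _ _ hv'.symm ((key u' h1).mpr h2)
    · rintro ⟨v', hv', rfl⟩
      obtain ⟨u', hu', he⟩ := hgW v' hv'
      refine ⟨u', (hmul u').mpr ⟨hu', (key u' hu').mp ?_⟩, he⟩
      exact tr _ _ _ _ he.symm ((ht v' (hgW v' hv')).mpr hv')
  exact ⟨f₀ * c, g₀, heq.symm ▸ ⟨v, hvg, hv⟩, heq⟩

end Groth.L05.HensSch
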