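import Groth.Prelude.Def_HensSch
import Groth.Agent.L05.Henselization.Pair
import Groth.Agent.L05.Hensel.Perm
import Mathlib.AlgebraicGeometry.AffineScheme
import Mathlib.Geometry.RingedSpace.OpenImmersion
import Mathlib.Topology.Sheaves.SheafCondition.UniqueGluing

/-!
# Henselian schemes: units, charts, and the universal property of sections on distinguished opens
-/

set_option autoImplicit false
set_option linter.style.haveILetI false
universe u

open CategoryTheory Opposite TopologicalSpace Topology AlgebraicGeometry IsLocalRing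

namespace Groth.L05.HensSch

variable {A : Type u} [CommRing A]

/-- Modulo `I`, a henselization of `(A_f, I A_f)` consists of fractions. -/
theorem exists_fraction {I : Ideal A} {f : A} {B : Type u} [CommRing B] {φ : A →+* B}
    (h : HensSch.IsHensAway A I f B φ) (s : B) : ∃ (c : A) (n : ℕ), s * φ f ^ n - φ c ∈ I.map φ := by
  let L := Localization.Away f
  letI : Algebra L B := (IsLocalization.Away.lift (g := φ) f h.1).toAlgebra
  have hφ : (algebraMap L B).comp (algebraMap A L) = φ := IsLocalization.Away.lift_comp f h.1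
  have hI : (I.map (algebraMap A L)).map (algebraMap L B) = I.map φ := by rw [Ideal.map_map, hφ]
  have hpair : Hens2.IsPairHenselization L (I.map (algebraMap A L)) B := by
    refine ⟨hI.symm ▸ h.2.1, fun C _ J g hC hg => ?_⟩
    obtain ⟨k, hk, hku⟩ := h.2.2 C J (g.comp (algebraMap A L)) hC (by rwa [← Ideal.map_map])
      ((IsLocalization.Away.algebraMap_isUnit f).map g)
    refine ⟨k, ?_, fun k' hk' => hku k' (show k'.comp φ = g.comp (algebraMap A L) by
      rw [← hφ, ← RingHom.comp_assoc, hk'])⟩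
    refine IsLocalization.ringHom_ext (Submonoid.powers f) ?_
    rw [RingHom.comp_assoc, hφ]
    exact hk
  have hb := (Groth.L05.Henselization.quotientMap_pow_bijective L _ hpair 1).2
  obtain ⟨q, hq⟩ := hb (Ideal.Quotient.mk _ s)
  obtain ⟨q, rfl⟩ := Ideal.Quotient.mk_surjective q
  rw [Ideal.quotientMap_mk, Ideal.Quotient.eq, pow_one, hI] at hq
  obtain ⟨n, c, hc⟩ := IsLocalization.Away.surj f q
  refine ⟨c, n, ?_⟩
  have hq' : φ c = algebraMap L B q * φ f ^ n := by
    rw [← hφ, RingHom.comp_apply, RingHom.comp_apply, ← hc, map_mul, map_pow]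
  rw [hq', show s * φ f ^ n - algebraMap L B q * φ f ^ n = -((algebraMap L B q - s) * φ f ^ n) by ring]
  exact neg_mem (Ideal.mul_mem_right _ _ hq)

section Units

variable {X : LocallyRingedSpace.{u}}

/-- A pulled back section is invertible at a point exactly when the section is invertible at the image. -/
theorem isUnit_germ_app_iff {Z : LocallyRingedSpace.{u}} (g : Z ⟶ X) (U : Opens X) (z : Z)
    (hz : g.base z ∈ U) (t : X.presheaf.obj (op U)) :
    IsUnit (Z.presheaf.germ ((Opens.map g.base).obj U) z hz ((g.c.app (op U)).hom t)) ↔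
      IsUnit (X.presheaf.germ U (g.base z) hz t) := by
  have h := PresheafedSpace.stalkMap_germ_apply g.toHom U z hz t
  constructor
  · intro hu
    exact IsLocalHom.map_nonunit (f := (g.stalkMap z).hom) _ (h.symm ▸ hu)
  · intro hu
    exact h ▸ hu.map (g.stalkMap z).hom

theorem isUnit_germ_secMap_iff (π : X ⟶ HensSch.specLRS A) (U : Opens (PrimeSpectrum A)) (x : X)
    (hx : x ∈ (Opens.map π.base).obj U) (c : A) :
    IsUnit (X.presheaf.germ ((Opens.map π.base).obj U) x hx (HensSch.secMap π U c)) ↔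
      c ∉ (π.base x : PrimeSpectrum A).asIdeal := by
  have h1 : X.presheaf.germ ((Opens.map π.base).obj U) x hx (HensSch.secMap π U c) =
      X.presheaf.germ ((Opens.map π.base).obj ⊤) x trivial
        ((π.c.app (op ⊤)).hom ((Scheme.ΓSpecIso (CommRingCat.of A)).inv.hom c)) :=
    TopCat.Presheaf.germ_res_apply X.presheaf _ x hx _
  rw [h1, isUnit_germ_app_iff π ⊤ x trivial]
  have h2 := Scheme.mem_basicOpen_top (Spec (CommRingCat.of A)) ((Scheme.ΓSpecIso (CommRingCat.of A)).inv c) (π.base x)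
  have h3 := AlgebraicGeometry.basicOpen_eq_of_affine (R := CommRingCat.of A) c
  exact h2.symm.trans (by rw [h3]; exact Iff.rfl)

/-- A section of an affine henselian spectrum that vanishes at all points is nilpotent modulo the ideal. -/
theorem mem_radical_of_forall_not_isUnit {J : Ideal A} {π : X ⟶ HensSch.specLRS A}
    (hX : HensSch.IsSph A J X π) (b : A) (s : X.presheaf.obj (op (HensSch.dOpen π b)))
    (hs : ∀ (x : X) (hx : x ∈ HensSch.dOpen π b), ¬ IsUnit (X.presheaf.germ _ x hx s)) :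
    s ∈ (J.map (HensSch.secMap π (PrimeSpectrum.basicOpen b))).radical := by
  let φ := HensSch.secMap π (PrimeSpectrum.basicOpen b)
  obtain ⟨c, n, hc⟩ := exists_fraction (hX.2.2 b) s
  have hJ : ∀ (x : X) (hx : x ∈ HensSch.dOpen π b), J.map φ ≤
      (maximalIdeal (X.presheaf.stalk x)).comap (X.presheaf.germ _ x hx).hom := by
    intro x hx
    rw [Ideal.map_le_iff_le_comap]
    intro a ha hu
    have hmem : π.base x ∈ PrimeSpectrum.zeroLocus (J : Set A) := hX.2.1 ▸ ⟨x, rfl⟩
    exact (isUnit_germ_secMap_iff π _ x hx a).mp hu (hmem ha)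
  have hbc : b * c ∈ J.radical := by
    rw [Ideal.radical_eq_sInf]
    refine Submodule.mem_sInf.mpr ?_
    rintro q ⟨hJq, hq⟩
    by_contra hbc
    have hq' : (⟨q, hq⟩ : PrimeSpectrum A) ∈ Set.range π.base := by rw [hX.2.1]; exact hJq
    obtain ⟨x, hxq⟩ := hq'
    have hqx : (π.base x : PrimeSpectrum A).asIdeal = q := congrArg PrimeSpectrum.asIdeal hxq
    have hbx : x ∈ HensSch.dOpen π b := show b ∉ (π.base x : PrimeSpectrum A).asIdeal from
      hqx.symm ▸ fun h => hbc (Ideal.mul_mem_right c q h)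
    have hcu : IsUnit (X.presheaf.germ _ x hbx (φ c)) :=
      (isUnit_germ_secMap_iff π _ x hbx c).mpr (hqx.symm ▸ fun h => hbc (Ideal.mul_mem_left q b h))
    have h1 : (X.presheaf.germ _ x hbx).hom (s * φ b ^ n - φ c) ∈ maximalIdeal _ := hJ x hbx hc
    have h2 : (X.presheaf.germ _ x hbx).hom (s * φ b ^ n) ∈ maximalIdeal _ := by
      rw [map_mul]; exact Ideal.mul_mem_right _ _ (hs x hbx)
    rw [map_sub] at h1
    have h3 := sub_mem h2 h1
    rw [sub_sub_cancel] at h3
    exact h3 hcu
  obtain ⟨m, hm⟩ := hbc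
  have h4 : φ b * φ c ∈ (J.map φ).radical := ⟨m, by rw [← map_mul, ← map_pow]; exact Ideal.mem_map_of_mem φ hm⟩
  have hφb : IsUnit (φ b) := (hX.2.2 b).1
  have h5 : s * φ b ^ n ∈ (J.map φ).radical := by
    have := add_mem (Ideal.le_radical hc) ((Ideal.unit_mul_mem_iff_mem _ hφb).mp h4)
    rwa [sub_add_cancel] at this
  exact (Ideal.mul_unit_mem_iff_mem _ (hφb.pow n)).mp h5

end Units

section Charts

variable {Z : LocallyRingedSpace.{u}}

/-- Small enough opens have henselian rings of sections. -/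
theorem exists_chart (hZ : HensSch.IsHensScheme Z) (U : Opens Z) (z : Z) (hz : z ∈ U) :
    ∃ D : Opens Z, D ≤ U ∧ z ∈ D ∧ ∃ (T : Type u) (_ : CommRing T) (K : Ideal T)
      (κ : (Z.presheaf.obj (op D) : Type u) ≃+* T), HenselianRing T K ∧
        ∀ s : (Z.presheaf.obj (op D) : Type u),
          (∀ (v : Z) (hv : v ∈ D), ¬ IsUnit (Z.presheaf.germ D v hv s)) → κ s ∈ K := by
  obtain ⟨W, i, hi, ⟨w, rfl⟩, B, _, J, π, hBJ, -, hW⟩ := hZ z
  let O : Opens W := (Opens.map i.base).obj U
  obtain ⟨O', hO', hOO'⟩ := hW.1.isInducing.isOpen_iff.mp O.isOpen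
  obtain ⟨V, ⟨b, rfl⟩, hwb, hbO'⟩ := PrimeSpectrum.isTopologicalBasis_basic_opens.exists_subset_of_mem_open
    (a := π.base w) (by
      have h : w ∈ π.base ⁻¹' O' := by rw [hOO']; exact hz
      exact h) hO'
  let D : Opens Z := (LocallyRingedSpace.IsOpenImmersion.opensFunctor i).obj (HensSch.dOpen π b)
  have hbO : HensSch.dOpen π b ≤ O := fun x hx => by
    show x ∈ (O : Set W)
    rw [← hOO']; exact hbO' hx
  refine ⟨D, ?_, ⟨w, hwb, rfl⟩, ?_⟩
  · rintro _ ⟨x, hx, rfl⟩
    exact hbO hx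
  have hpre : (Opens.map i.base).obj D = HensSch.dOpen π b :=
    Opens.ext (Set.preimage_image_eq _ hi.base_open.injective)
  haveI : IsIso (i.c.app (op D)) := hi.c_iso _
  haveI := (hW.2.2 b).2.1
  refine ⟨W.presheaf.obj (op (HensSch.dOpen π b)), inferInstance,
    (J.map (HensSch.secMap π (PrimeSpectrum.basicOpen b))).radical,
    (asIso (i.c.app (op D)) ≪≫ W.presheaf.mapIso (eqToIso (congrArg op hpre))).commRingCatIsoToRingEquiv,
    Groth.L05.henselianRing_radical _, fun s hs => ?_⟩
  refine mem_radical_of_forall_not_isUnit hW b _ fun x hx hu => ?_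
  have hxD : i.base x ∈ D := ⟨x, hx, rfl⟩
  refine hs (i.base x) hxD ((isUnit_germ_app_iff i D x hxD s).mp ?_)
  have heq : W.presheaf.germ (HensSch.dOpen π b) x hx
      ((W.presheaf.map (eqToHom (congrArg op hpre))).hom ((i.c.app (op D)).hom s)) =
      W.presheaf.germ ((Opens.map i.base).obj D) x hxD ((i.c.app (op D)).hom s) := by
    rw [show eqToHom (congrArg op hpre) = (eqToHom hpre.symm).op from Subsingleton.elim _ _]
    exact TopCat.Presheaf.germ_res_apply _ _ _ _ _
  exact heq ▸ hu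

variable {I : Ideal A} {f : A} {H : Type u} [CommRing H] {φ : A →+* H}

/-- Two maps out of a henselization agreeing on `A` agree. -/
theorem hom_unique (hZ : HensSch.IsHensScheme Z) (hH : HensSch.IsHensAway A I f H φ) (U : Opens Z)
    (θ₁ θ₂ : H →+* (Z.presheaf.obj (op U) : Type u)) (h : θ₁.comp φ = θ₂.comp φ)
    (hI : ∀ a ∈ I, ∀ (v : Z) (hv : v ∈ U), ¬ IsUnit (Z.presheaf.germ U v hv (θ₁ (φ a)))) : θ₁ = θ₂ := by
  refine RingHom.ext fun s => ?_
  have hex : ∀ v : U, ∃ D : Opens Z, ∃ hD : D ≤ U, v.1 ∈ D ∧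
      Z.presheaf.map (homOfLE hD).op (θ₁ s) = Z.presheaf.map (homOfLE hD).op (θ₂ s) := by
    intro v
    obtain ⟨D, hD, hvD, T, _, K, κ, hK, hκ⟩ := exists_chart hZ U v.1 v.2
    refine ⟨D, hD, hvD, κ.injective ?_⟩
    let r : (Z.presheaf.obj (op U) : Type u) →+* T := κ.toRingHom.comp (Z.presheaf.map (homOfLE hD).op).hom
    have hIK : I.map (r.comp (θ₁.comp φ)) ≤ K := by
      rw [Ideal.map_le_iff_le_comap]
      intro a ha
      refine hκ _ fun y hy hu => hI a ha y (hD hy) ?_
      rwa [TopCat.Presheaf.germ_res_apply] at hu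
    obtain ⟨k, -, hk⟩ := hH.2.2 T K (r.comp (θ₁.comp φ)) hK hIK ((hH.1.map θ₁).map r)
    exact RingHom.congr_fun ((hk (r.comp θ₁) rfl).trans
      (hk (r.comp θ₂) (show (r.comp θ₂).comp φ = r.comp (θ₁.comp φ) by rw [h]; rfl)).symm) s
  choose D hD hvD heq using hex
  exact TopCat.Sheaf.eq_of_locally_eq' Z.sheaf D U (fun v => homOfLE (hD v))
    (fun v hv => Opens.mem_iSup.mpr ⟨⟨v, hv⟩, hvD ⟨v, hv⟩⟩) _ _ heq

/-- The universal property of the rings of sections of an affine henselian spectrum against henselian schemes. -/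
theorem exists_hom (hZ : HensSch.IsHensScheme Z) (hH : HensSch.IsHensAway A I f H φ) (U : Opens Z)
    (ψ : A →+* (Z.presheaf.obj (op U) : Type u)) (hf : IsUnit (ψ f))
    (hI : ∀ a ∈ I, ∀ (v : Z) (hv : v ∈ U), ¬ IsUnit (Z.presheaf.germ U v hv (ψ a))) :
    ∃ θ : H →+* (Z.presheaf.obj (op U) : Type u), θ.comp φ = ψ := by
  have hex : ∀ v : U, ∃ D : Opens Z, ∃ hD : D ≤ U, v.1 ∈ D ∧ ∃ θ : H →+* (Z.presheaf.obj (op D) : Type u),
      θ.comp φ = (Z.presheaf.map (homOfLE hD).op).hom.comp ψ := by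
    intro v
    obtain ⟨D, hD, hvD, T, _, K, κ, hK, hκ⟩ := exists_chart hZ U v.1 v.2
    let r : (Z.presheaf.obj (op U) : Type u) →+* T := κ.toRingHom.comp (Z.presheaf.map (homOfLE hD).op).hom
    have hIK : I.map (r.comp ψ) ≤ K := by
      rw [Ideal.map_le_iff_le_comap]
      intro a ha
      refine hκ _ fun y hy hu => hI a ha y (hD hy) ?_
      rwa [TopCat.Presheaf.germ_res_apply] at hu
    obtain ⟨k, hk, -⟩ := hH.2.2 T K (r.comp ψ) hK hIK (hf.map r)
    refine ⟨D, hD, hvD, κ.symm.toRingHom.comp k, RingHom.ext fun a => ?_⟩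
    show κ.symm (k (φ a)) = _
    rw [show k (φ a) = κ (Z.presheaf.map (homOfLE hD).op (ψ a)) from RingHom.congr_fun hk a,
      RingEquiv.symm_apply_apply]
    rfl
  choose D hD hvD θD hθD using hex
  have hcompat : ∀ v w : U, (Z.presheaf.map (Opens.infLELeft (D v) (D w)).op).hom.comp (θD v) =
      (Z.presheaf.map (Opens.infLERight (D v) (D w)).op).hom.comp (θD w) := by
    intro v w
    have hres : ∀ (y : U) (hy : D v ⊓ D w ≤ D y),
        ((Z.presheaf.map (homOfLE hy).op).hom.comp (θD y)).comp φ =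
          (Z.presheaf.map (homOfLE (hy.trans (hD y))).op).hom.comp ψ := by
      intro y hy
      rw [RingHom.comp_assoc, hθD, ← RingHom.comp_assoc]
      congr 1
      rw [← CommRingCat.hom_comp, ← Functor.map_comp]
      rfl
    refine hom_unique hZ hH _ _ _ ((hres v inf_le_left).trans (hres w inf_le_right).symm) fun a ha y hy hu => ?_
    have h1 : ((Z.presheaf.map (Opens.infLELeft (D v) (D w)).op).hom.comp (θD v)) (φ a) =
        Z.presheaf.map (homOfLE (le_trans inf_le_left (hD v))).op (ψ a) := RingHom.congr_fun (hres v inf_le_left) a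
    rw [h1, TopCat.Presheaf.germ_res_apply] at hu
    exact hI a ha y (hD v hy.1) hu
  have hglue : ∀ s : H, ∃! t : (Z.presheaf.obj (op U) : Type u),
      ∀ v, Z.presheaf.map (homOfLE (hD v)).op t = θD v s := fun s =>
    TopCat.Sheaf.existsUnique_gluing' Z.sheaf D U (fun v => homOfLE (hD v))
      (fun v hv => Opens.mem_iSup.mpr ⟨⟨v, hv⟩, hvD ⟨v, hv⟩⟩) (fun v => θD v s)
      (fun v w => RingHom.congr_fun (hcompat v w) s)
  choose t ht htu using hglue
  let θ : H →+* (Z.presheaf.obj (op U) : Type u) :=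
    { toFun := t
      map_one' := (htu 1 1 fun v => by rw [map_one, map_one]).symm
      map_zero' := (htu 0 0 fun v => by rw [map_zero, map_zero]).symm
      map_mul' := fun x y => (htu (x * y) (t x * t y) fun v => by rw [map_mul, ht, ht, map_mul]).symm
      map_add' := fun x y => (htu (x + y) (t x + t y) fun v => by rw [map_add, ht, ht, map_add]).symm }
  exact ⟨θ, RingHom.ext fun a => (htu (φ a) (ψ a) fun v => (RingHom.congr_fun (hθD v) a).symm).symm⟩

end Charts

end Groth.L05.HensSch
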