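import Groth.Agent.L05.HensSch.StalkHens
import Groth.Agent.S1958
import Mathlib.Algebra.Homology.ShortComplex.ExactFunctor
import Mathlib.CategoryTheory.Abelian.Exact
import Mathlib.RingTheory.Flat.FaithfullyFlat.Basic

/-!
# Exactness of the inverse image along a henselization
-/

set_option autoImplicit false
set_option linter.style.haveILetI false
set_option backward.isDefEq.respectTransparency false
set_option backward.isDefEq.respectTransparency.types false

universe u

open CategoryTheory CategoryTheory.Limits AlgebraicGeometry Opposite TopologicalSpace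

noncomputable section

namespace Groth.L05.HensSch.Exact

theorem extendScalars_map_injective {R S : Type u} [CommRing R] [CommRing S] (φ : R →+* S)
    (hφ : letI := φ.toAlgebra; Module.Flat R S) {M N : ModuleCat.{u} R} (a : M ⟶ N)
    (ha : Function.Injective a) : Function.Injective ((ModuleCat.extendScalars φ).map a) := by
  letI := φ.toAlgebra
  haveI := hφ
  exact Module.Flat.lTensor_preserves_injective_linearMap (M := S) a.hom ha

variable {Z : LocallyRingedSpace.{u}} {X : Scheme.{u}} (g : Z ⟶ X.toLocallyRingedSpace)

theorem map_stalk_injective (z : Z) (hg : letI := (Stalk.φ g z).toAlgebra; Module.Flat (X.presheaf.stalk (g.base z)) (Z.presheaf.stalk z))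
    {F G : X.Modules} (f : F ⟶ G) (hf : Function.Injective ((Groth.L00.Stk.F X (g.base z)).map f)) :
    Function.Injective ((Stalk.F Z z).map ((HensSch.pullMod g).map f)) := by
  have h := (Stalk.stalkIso g z).hom.naturality f
  have h1 := extendScalars_map_injective (Stalk.φ g z) hg _ hf
  intro a b hab
  refine (ConcreteCategory.bijective_of_isIso ((Stalk.stalkIso g z).hom.app F)).1 (h1 ?_)
  have ha := ConcreteCategory.congr_hom h a
  have hb := ConcreteCategory.congr_hom h b
  simp only [Functor.comp_map, ConcreteCategory.comp_apply] at ha hb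
  exact (ha.symm.trans (congrArg _ hab)).trans hb

theorem preservesFiniteLimits_pullMod
    (hg : ∀ z : Z, letI := (Stalk.φ g z).toAlgebra; Module.Flat (X.presheaf.stalk (g.base z)) (Z.presheaf.stalk z)) :
    PreservesFiniteLimits (HensSch.pullMod g) := by
  haveI : (HensSch.pullMod g).IsLeftAdjoint := (HensSch.pullPushAdj g).isLeftAdjoint
  haveI : PreservesBinaryBiproducts (HensSch.pullMod g) :=
    preservesBinaryBiproducts_of_preservesBinaryCoproducts _
  haveI : (HensSch.pullMod g).Additive := Functor.additive_of_preservesBinaryBiproducts _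
  haveI : (HensSch.pullMod g).PreservesMonomorphisms := ⟨fun {F G} f hf => by
    refine Stalk.mono_of_injective _ fun z => map_stalk_injective g z (hg z) f ?_
    exact (ModuleCat.mono_iff_injective _).mp (inferInstance : Mono ((Groth.L00.Stk.F X (g.base z)).map f))⟩
  haveI : (HensSch.pullMod g).PreservesHomology := Functor.preservesHomology_of_preservesMonos_and_cokernels _
  exact Functor.preservesFiniteLimits_of_preservesHomology _

theorem flat_stalk {Y : Set X} {Xh : LocallyRingedSpace.{u}} {ι : Xh ⟶ X.toLocallyRingedSpace}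
    (hh : HensSch.IsHenselizationAlong X Y Xh ι) (x : Xh) :
    letI := (Stalk.φ ι x).toAlgebra
    Module.Flat (X.presheaf.stalk (ι.base x)) (Xh.presheaf.stalk x) := by
  letI := (Stalk.φ ι x).toAlgebra
  obtain ⟨L, -, hP⟩ := StalkHens.exists_isPairHenselization hh x
  exact (Groth.Agent.S1958.result _ L _ hP).1

theorem flat_stalk_sph {A : Type u} [CommRing A] {I : Ideal A} {V : LocallyRingedSpace.{u}}
    {π : V ⟶ HensSch.specLRS A} (hV : HensSch.IsSph A I V π) (v : V) :
    letI := (Stalk.φ π v).toAlgebra
    Module.Flat ((Spec (CommRingCat.of A)).presheaf.stalk (π.base v)) (V.presheaf.stalk v) := by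
  letI := (Stalk.φ π v).toAlgebra
  exact (Groth.Agent.S1958.result _ _ _ (StalkHens.isPairHenselization_sph hV v)).1

/-- A morphism killed by the inverse image is zero on the stalks at the points of the image. -/
theorem stalk_map_eq_zero (z : Z) (hg : letI := (Stalk.φ g z).toAlgebra; Module.Flat (X.presheaf.stalk (g.base z)) (Z.presheaf.stalk z))
    {F G : X.Modules} (f : F ⟶ G) (hf : (HensSch.pullMod g).map f = 0)
    (p : (Groth.L00.Stk.F X (g.base z)).obj F) : (Groth.L00.Stk.F X (g.base z)).map f p = 0 := by
  letI := (Stalk.φ g z).toAlgebra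
  haveI := hg
  haveI : IsLocalHom (algebraMap (X.presheaf.stalk (g.base z)) (Z.presheaf.stalk z)) :=
    inferInstanceAs (IsLocalHom (g.stalkMap z).hom)
  haveI : Module.FaithfullyFlat (X.presheaf.stalk (g.base z)) (Z.presheaf.stalk z) :=
    Module.FaithfullyFlat.of_flat_of_isLocalHom
  haveI : (HensSch.pullMod g).IsLeftAdjoint := (HensSch.pullPushAdj g).isLeftAdjoint
  have h := (Stalk.stalkIso g z).hom.naturality f
  have h0 : (Stalk.F Z z).map ((HensSch.pullMod g).map f) = 0 := by
    rw [hf]
    ext a
    obtain ⟨U, hU, m, rfl⟩ := Stalk.exists_germ _ z a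
    exact (Stalk.F_map_germ z 0 hU m).trans (map_zero (Stalk.germ _ z hU))
  rw [Functor.comp_map, h0, zero_comp, eq_comm, Functor.comp_map] at h
  have h1 : (ModuleCat.extendScalars (Stalk.φ g z)).map ((Groth.L00.Stk.F X (g.base z)).map f) = 0 :=
    (cancel_epi ((Stalk.stalkIso g z).hom.app F)).mp (h.trans comp_zero.symm)
  have h2 : ((Groth.L00.Stk.F X (g.base z)).map f).hom.lTensor (Z.presheaf.stalk z) = 0 :=
    LinearMap.ext fun t => (ConcreteCategory.congr_hom h1 t : _)
  rw [← Module.FaithfullyFlat.zero_iff_lTensor_zero] at h2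
  exact LinearMap.congr_fun h2 p

end Groth.L05.HensSch.Exact
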