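import Groth.Prelude.Def_HensSch
import Groth.Agent.L00.PullStalk
import Mathlib.Algebra.Category.ModuleCat.Stalk
import Mathlib.Topology.Sheaves.Stalks
import Mathlib.Topology.Sheaves.SheafCondition.UniqueGluing
import Mathlib.Algebra.Category.ModuleCat.ChangeOfRings

/-!
# Stalks and skyscrapers of modules on a locally ringed space, and stalks of inverse images
-/

set_option autoImplicit false
set_option linter.style.haveILetI false
set_option backward.isDefEq.respectTransparency false
set_option backward.isDefEq.respectTransparency.types false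

universe u

open CategoryTheory CategoryTheory.Limits AlgebraicGeometry Opposite TopologicalSpace

noncomputable section

namespace Groth.L05.HensSch.Stalk

variable {Z : LocallyRingedSpace.{u}}

/-- the presheaf of modules underlying a sheaf of modules -/
abbrev pre (M : ModSite.Mod Z.sheaf) :
    PresheafOfModules.{u} (Z.presheaf ⋙ forget₂ CommRingCat RingCat) := M.val

/-- the stalk of a module -/
abbrev St (M : ModSite.Mod Z.sheaf) (x : Z) : Type u :=
  ↑(TopCat.Presheaf.stalk (PresheafOfModules.presheaf (pre M)) x)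

variable (M : ModSite.Mod Z.sheaf) (x : Z)

/-- germ of a section -/
def germ {U : Opens Z} (hx : x ∈ U) : (pre M).obj (op U) →+ St M x :=
  (TopCat.Presheaf.germ (PresheafOfModules.presheaf (pre M)) U x hx).hom

theorem germ_smul {U : Opens Z} (hx : x ∈ U) (r : Z.presheaf.obj (op U)) (m : (pre M).obj (op U)) :
    germ M x hx (r • m) = Z.presheaf.germ U x hx r • germ M x hx m :=
  PresheafOfModules.germ_smul (R := Z.presheaf) (pre M) x U hx r m

theorem exists_germ (p : St M x) : ∃ (U : Opens Z) (hx : x ∈ U) (m : (pre M).obj (op U)), germ M x hx m = p := by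
  obtain ⟨U, hx, m, rfl⟩ := TopCat.Presheaf.exists_germ_eq (F := PresheafOfModules.presheaf (pre M)) (x := x) p
  exact ⟨U, hx, m, rfl⟩

theorem germ_res {U V : Opens Z} (i : V ⟶ U) (hx : x ∈ V) (m : (pre M).obj (op U)) :
    germ M x hx ((pre M).map i.op m) = germ M x (i.le hx) m :=
  TopCat.Presheaf.germ_res_apply (PresheafOfModules.presheaf (pre M)) i x hx m

theorem section_ext {U : Opens Z} (m n : (pre M).obj (op U))
    (h : ∀ (z : Z) (hz : z ∈ U), germ M z hz m = germ M z hz n) : m = n :=
  TopCat.Presheaf.section_ext (X := Z.toTopCat) ⟨PresheafOfModules.presheaf (pre M), M.isSheaf⟩ U m n h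

variable {M}

/-- the map on stalks -/
def mapFun {N : ModSite.Mod Z.sheaf} (φ : M ⟶ N) : St M x →+ St N x :=
  ((TopCat.Presheaf.stalkFunctor AddCommGrpCat.{u} x).map ((PresheafOfModules.toPresheaf _).map φ.val)).hom

theorem mapFun_germ {N : ModSite.Mod Z.sheaf} (φ : M ⟶ N) {U : Opens Z} (hx : x ∈ U) (m : (pre M).obj (op U)) :
    mapFun x φ (germ M x hx m) = germ N x hx ((φ.val.app (op U)).hom m) :=
  TopCat.Presheaf.stalkFunctor_map_germ_apply U x hx _ _

theorem mapFun_smul {N : ModSite.Mod Z.sheaf} (φ : M ⟶ N) (r : Z.presheaf.stalk x) (p : St M x) :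
    mapFun x φ (r • p) = r • mapFun x φ p := by
  obtain ⟨W, hW, m, rfl⟩ := exists_germ M x p
  obtain ⟨V, hV, a, rfl⟩ := TopCat.Presheaf.exists_germ_eq (F := Z.presheaf) (x := x) r
  let iW : W ⊓ V ⟶ W := homOfLE inf_le_left
  let iV : W ⊓ V ⟶ V := homOfLE inf_le_right
  have hWV : x ∈ W ⊓ V := ⟨hW, hV⟩
  rw [← germ_res M x iW hWV m, ← TopCat.Presheaf.germ_res_apply Z.presheaf iV x hWV a, ← germ_smul,
    mapFun_germ, mapFun_germ, ← germ_smul]
  exact congrArg _ ((φ.val.app (op (W ⊓ V))).hom.map_smul _ _)

variable (Z)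

/-- the stalk functor -/
def F : ModSite.Mod Z.sheaf ⥤ ModuleCat.{u} (Z.presheaf.stalk x) where
  obj M := ModuleCat.of (Z.presheaf.stalk x) (St M x)
  map φ := ModuleCat.ofHom { toFun := mapFun x φ, map_add' := map_add _, map_smul' := mapFun_smul x φ }
  map_id M := by
    ext p
    obtain ⟨U, hU, m, rfl⟩ := exists_germ M x p
    exact mapFun_germ x (𝟙 M) hU m
  map_comp f g := by
    ext p
    obtain ⟨U, hU, m, rfl⟩ := exists_germ _ x p
    exact (mapFun_germ x (f ≫ g) hU m).trans
      ((congrArg (mapFun x g) (mapFun_germ x f hU m)).trans (mapFun_germ x g hU _)).symm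

variable {Z}

theorem F_map_germ {N : ModSite.Mod Z.sheaf} (φ : M ⟶ N) {U : Opens Z} (hx : x ∈ U) (m : (pre M).obj (op U)) :
    (F Z x).map φ (germ M x hx m) = germ N x hx ((φ.val.app (op U)).hom m) :=
  mapFun_germ x φ hx m

theorem mono_of_injective {N : ModSite.Mod Z.sheaf} (φ : M ⟶ N)
    (h : ∀ z : Z, Function.Injective ((F Z z).map φ)) : Mono φ := by
  refine ⟨fun {P} a b hab => SheafOfModules.hom_ext (PresheafOfModules.hom_ext ?_)⟩
  rintro ⟨U⟩
  refine ModuleCat.hom_ext (LinearMap.ext fun p => section_ext M _ _ fun z hz => h z ?_)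
  rw [F_map_germ, F_map_germ]
  exact congrArg (germ N z hz) (congrArg (fun k : P ⟶ N => (k.val.app (op U)).hom p) hab)

section Sky

variable (N : ModuleCat.{u} (Z.presheaf.stalk x))

/-- sections over `U` -/
def Sec (U : Opens Z) : Type u := PLift (x ∈ U) → N

instance (U : Opens Z) : AddCommGroup (Sec x N U) :=
  inferInstanceAs (AddCommGroup (PLift (x ∈ U) → N))

/-- scalars act through germs -/
instance secModule (U : Opens Z) : Module (Z.presheaf.obj (op U)) (Sec x N U) where
  smul r s := fun h => (Z.presheaf.germ U x h.down r : Z.presheaf.stalk x) • s h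
  one_smul s := funext fun h => by
    change (Z.presheaf.germ U x h.down (1 : Z.presheaf.obj (op U)) : Z.presheaf.stalk x) • s h = _
    rw [map_one, one_smul]
  mul_smul r r' s := funext fun h => by
    change (Z.presheaf.germ U x h.down (r * r') : Z.presheaf.stalk x) • s h = _
    rw [map_mul, mul_smul]
    rfl
  smul_zero r := funext fun h => smul_zero _
  smul_add r s t := funext fun h => smul_add _ _ _
  add_smul r r' s := funext fun h => by
    change (Z.presheaf.germ U x h.down (r + r') : Z.presheaf.stalk x) • s h = _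
    rw [map_add, add_smul]
    rfl
  zero_smul s := funext fun h => by
    change (Z.presheaf.germ U x h.down (0 : Z.presheaf.obj (op U)) : Z.presheaf.stalk x) • s h = _
    rw [map_zero, zero_smul]
    rfl

/-- the abelian presheaf -/
def abPre : (Opens Z)ᵒᵖ ⥤ Ab.{u} where
  obj U := AddCommGrpCat.of (Sec x N U.unop)
  map {U V} i := AddCommGrpCat.ofHom
    { toFun := fun s h => s ⟨i.unop.le h.down⟩
      map_zero' := rfl
      map_add' := fun _ _ => rfl }

instance (U : (Opens Z)ᵒᵖ) :
    Module ((Z.presheaf ⋙ forget₂ CommRingCat RingCat).obj U) ((abPre x N).obj U) :=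
  secModule x N U.unop

theorem abPre_map_smul ⦃U V : (Opens Z)ᵒᵖ⦄ (i : U ⟶ V)
    (r : (Z.presheaf ⋙ forget₂ CommRingCat RingCat).obj U) (m : (abPre x N).obj U) :
    (abPre x N).map i (r • m) =
      (Z.presheaf ⋙ forget₂ CommRingCat RingCat).map i r • (abPre x N).map i m := by
  funext h
  change (Z.presheaf.germ U.unop x (i.unop.le h.down) r : Z.presheaf.stalk x) • m ⟨_⟩ =
    (Z.presheaf.germ V.unop x h.down (Z.presheaf.map i r) : Z.presheaf.stalk x) • m ⟨_⟩
  exact congrArg (fun a : Z.presheaf.stalk x => a • m ⟨i.unop.le h.down⟩)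
    (TopCat.Presheaf.germ_res_apply Z.presheaf i.unop x h.down r).symm

theorem abPre_isSheaf : TopCat.Presheaf.IsSheaf (abPre x N) := by
  rw [TopCat.Presheaf.isSheaf_iff_isSheafUniqueGluing]
  intro ι U sf hc
  classical
  let s : Sec x N (iSup U) := fun h =>
    sf (Opens.mem_iSup.1 h.down).choose ⟨(Opens.mem_iSup.1 h.down).choose_spec⟩
  refine ⟨s, fun i => funext fun h => ?_, fun t ht => funext fun h => ?_⟩
  · exact congrFun (hc _ i) ⟨⟨(Opens.mem_iSup.1 ((Opens.leSupr U i).le h.down)).choose_spec, h.down⟩⟩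
  · exact congrFun (ht (Opens.mem_iSup.1 h.down).choose) ⟨(Opens.mem_iSup.1 h.down).choose_spec⟩

/-- the skyscraper module -/
def sky : ModSite.Mod Z.sheaf where
  val := PresheafOfModules.ofPresheaf (R := Z.presheaf ⋙ forget₂ CommRingCat RingCat) (abPre x N)
    (abPre_map_smul x N)
  isSheaf := abPre_isSheaf x N

/-- functoriality -/
def skyMap {N N' : ModuleCat.{u} (Z.presheaf.stalk x)} (f : N ⟶ N') : sky x N ⟶ sky x N' :=
  ⟨PresheafOfModules.homMk
    { app := fun U => AddCommGrpCat.ofHom
        { toFun := fun (s : Sec x N U.unop) => (fun h => f (s h) : Sec x N' U.unop)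
          map_zero' := funext fun h => map_zero f.hom
          map_add' := fun s t => funext fun h => map_add f.hom _ _ }
      naturality := fun _ _ _ => rfl }
    (fun U r m => funext fun h => f.hom.map_smul _ _)⟩

variable (Z)

/-- the skyscraper functor -/
def skyF : ModuleCat.{u} (Z.presheaf.stalk x) ⥤ ModSite.Mod Z.sheaf where
  obj := sky x
  map f := skyMap x f
  map_id N := rfl
  map_comp f g := rfl

variable {Z}
variable {N} (M)

/-- from stalk maps to maps into the skyscraper -/
def toHom (φ : (F Z x).obj M ⟶ N) : M ⟶ sky x N :=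
  ⟨PresheafOfModules.homMk
    { app := fun U => AddCommGrpCat.ofHom
        { toFun := fun m => (fun h => φ (germ M x h.down m) : Sec x N U.unop)
          map_zero' := funext fun h => by rw [map_zero]; exact map_zero φ.hom
          map_add' := fun a b => funext fun h => by rw [map_add]; exact map_add φ.hom _ _ }
      naturality := fun U V i => by
        ext m
        funext h
        exact congrArg φ (germ_res M x i.unop h.down m) }
    (fun U r m => funext fun h => by
      change φ (germ M x h.down (r • m)) = (Z.presheaf.germ U.unop x h.down r : Z.presheaf.stalk x) • _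
      rw [germ_smul]
      exact φ.hom.map_smul _ _)⟩

variable {M} (ψ : M ⟶ sky x N)

/-- value at a germ -/
def evalHom {U : Opens Z} (hx : x ∈ U) : (pre M).obj (op U) →+ N where
  toFun m := ((ψ.val.app (op U)).hom m : Sec x N U) ⟨hx⟩
  map_zero' := congrFun (map_zero (ψ.val.app (op U)).hom) _
  map_add' a b := congrFun (map_add (ψ.val.app (op U)).hom a b) _

/-- cocone on germs -/
def evalNT :
    (OpenNhds.inclusion x).op ⋙ PresheafOfModules.presheaf (pre M) ⟶
    (Functor.const _).obj (AddCommGrpCat.of N) where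
  app U := AddCommGrpCat.ofHom (evalHom x ψ U.unop.2)
  naturality U V i := by
    refine AddCommGrpCat.hom_ext (AddMonoidHom.ext fun m => ?_)
    exact congrFun (ConcreteCategory.congr_hom
      (((PresheafOfModules.toPresheaf _).map ψ.val).naturality ((OpenNhds.inclusion x).map i.unop).op) m)
      ⟨V.unop.2⟩

/-- additive map on the stalk -/
def evalStalk : St M x →+ N :=
  (colimit.desc _ { pt := AddCommGrpCat.of N, ι := evalNT x ψ }).hom

theorem evalStalk_germ {U : Opens Z} (hx : x ∈ U) (m : (pre M).obj (op U)) :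
    evalStalk x ψ (germ M x hx m) = ((ψ.val.app (op U)).hom m : Sec x N U) ⟨hx⟩ :=
  ConcreteCategory.congr_hom (colimit.ι_desc { pt := AddCommGrpCat.of N, ι := evalNT x ψ } (op ⟨U, hx⟩)) m

/-- from maps into the skyscraper to stalk maps -/
def ofHom : (F Z x).obj M ⟶ N :=
  ModuleCat.ofHom (X := (F Z x).obj M)
    { toFun := evalStalk x ψ
      map_add' := map_add _
      map_smul' := fun r p => by
        obtain ⟨W, hW, m, rfl⟩ := exists_germ M x p
        obtain ⟨V, hV, a, rfl⟩ := TopCat.Presheaf.exists_germ_eq (F := Z.presheaf) (x := x) r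
        let iW : W ⊓ V ⟶ W := homOfLE inf_le_left
        let iV : W ⊓ V ⟶ V := homOfLE inf_le_right
        have hWV : x ∈ W ⊓ V := ⟨hW, hV⟩
        change evalStalk x ψ (_ • _) = Z.presheaf.germ V x hV a • _
        rw [← germ_res M x iW hWV m, ← TopCat.Presheaf.germ_res_apply Z.presheaf iV x hWV a,
          ← germ_smul, evalStalk_germ, evalStalk_germ]
        exact congrFun ((ψ.val.app (op (W ⊓ V))).hom.map_smul (Z.presheaf.map iV.op a)
          ((pre M).map iW.op m)) ⟨hWV⟩ }

theorem ofHom_germ {U : Opens Z} (hx : x ∈ U) (m : (pre M).obj (op U)) :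
    ofHom x ψ (germ M x hx m) = ((ψ.val.app (op U)).hom m : Sec x N U) ⟨hx⟩ := evalStalk_germ x ψ hx m

variable (Z)

/-- stalk is left adjoint to skyscraper -/
def adj : F Z x ⊣ skyF Z x :=
  Adjunction.mkOfHomEquiv
    { homEquiv := fun M N =>
        { toFun := toHom M x
          invFun := ofHom x
          left_inv := fun φ => by
            ext p
            obtain ⟨U, hU, m, rfl⟩ := exists_germ M x p
            exact ofHom_germ x _ hU m
          right_inv := fun ψ => by
            refine SheafOfModules.hom_ext (PresheafOfModules.hom_ext ?_)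
            rintro ⟨U⟩
            ext m
            exact funext fun h => ofHom_germ x ψ h.down m }
      homEquiv_naturality_left_symm := fun {M' M N} f g => by
        ext p
        obtain ⟨U, hU, m, rfl⟩ := exists_germ M' x p
        change ofHom x (f ≫ g) (germ M' x hU m) = ofHom x g ((F Z x).map f (germ M' x hU m))
        rw [ofHom_germ]
        refine Eq.trans ?_ (congrArg (ofHom x g) (F_map_germ x f hU m)).symm
        exact (ofHom_germ x g hU _).symm
      homEquiv_naturality_right := fun {M N N'} f g => rfl }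

end Sky

section Pull

variable {X : Scheme.{u}} (g : Z ⟶ X.toLocallyRingedSpace) (z : Z)

/-- the map of local rings -/
abbrev φ : X.presheaf.stalk (g.base z) →+* Z.presheaf.stalk z := (g.stalkMap z).hom

theorem germ_stalkMap (U : X.Opens) (hz : g.base z ∈ U) (r : X.presheaf.obj (op U)) :
    φ g z (X.presheaf.germ U (g.base z) hz r) =
      Z.presheaf.germ ((Opens.map g.base).obj U) z hz ((g.c.app (op U)).hom r) :=
  PresheafedSpace.stalkMap_germ_apply g.toHom U z hz r

/-- pushforward of a skyscraper is a skyscraper -/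
def pushSkyHom (N : ModuleCat.{u} (Z.presheaf.stalk z)) :
    (show X.Modules from (HensSch.pushMod g).obj (sky z N)) ⟶
      Groth.L00.Sky.sky (g.base z) ((ModuleCat.restrictScalars (φ g z)).obj N) :=
  ⟨PresheafOfModules.homMk
    { app := fun U => AddCommGrpCat.ofHom
        { toFun := fun (s : Sec z N ((Opens.map g.base).obj U.unop)) =>
            ((fun h => s ⟨h.down⟩) : Groth.L00.Sky.Sec (g.base z) ((ModuleCat.restrictScalars (φ g z)).obj N) U.unop)
          map_zero' := rfl
          map_add' := fun _ _ => rfl }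
      naturality := fun U V i => rfl }
    (fun U r (s : Sec z N ((Opens.map g.base).obj U.unop)) => funext fun h => by
      change (Z.presheaf.germ _ z h.down ((g.c.app (op U.unop)).hom r) : Z.presheaf.stalk z) • s ⟨h.down⟩ =
        (φ g z) (X.presheaf.germ U.unop (g.base z) h.down r) • (show N from s ⟨h.down⟩)
      rw [germ_stalkMap g z U.unop h.down r])⟩

theorem isIso_pushSkyHom (N : ModuleCat.{u} (Z.presheaf.stalk z)) : IsIso (pushSkyHom g z N) := by
  haveI : IsIso ((Scheme.Modules.toPresheaf X).map (pushSkyHom g z N)) := by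
    haveI : ∀ U, IsIso (((Scheme.Modules.toPresheaf X).map (pushSkyHom g z N)).app U) := fun U => by
      rw [ConcreteCategory.isIso_iff_bijective]
      exact ⟨fun s t h => funext fun a => congrFun h ⟨a.down⟩, fun s => ⟨fun a => s ⟨a.down⟩, rfl⟩⟩
    exact NatIso.isIso_of_isIso_app _
  have h : (Scheme.Modules.toPresheaf X).ReflectsIsomorphisms := inferInstanceAs (Scheme.Modules.toPresheaf X).ReflectsIsomorphisms
  exact @isIso_of_reflects_iso _ _ _ _ _ _ _ (Scheme.Modules.toPresheaf X) _ h

/-- naturally -/
def pushSkyIso :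
    skyF Z z ⋙ HensSch.pushMod g ≅ ModuleCat.restrictScalars (φ g z) ⋙ Groth.L00.Sky.skyF (g.base z) :=
  NatIso.ofComponents (fun N => @asIso _ _ _ _ (pushSkyHom g z N) (isIso_pushSkyHom g z N)) (fun {N N'} f => by
    apply Scheme.Modules.hom_ext
    intro U
    ext s
    rfl)

/-- the stalk of an inverse image -/
def stalkIso :
    HensSch.pullMod g ⋙ F Z z ≅ Groth.L00.Stk.F X (g.base z) ⋙ ModuleCat.extendScalars (φ g z) :=
  ((HensSch.pullPushAdj g).comp (adj Z z)).leftAdjointUniq
    (((Groth.L00.Sky.adj (g.base z)).comp (ModuleCat.extendRestrictScalarsAdj (φ g z))).ofNatIsoRight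
      (pushSkyIso g z).symm)

/-- a section pulled back to the inverse image -/
def pulled (M : X.Modules) {U : X.Opens} (m : M.val.obj (op U)) :
    (pre ((HensSch.pullMod g).obj M)).obj (op ((Opens.map g.base).obj U)) :=
  (((HensSch.pullPushAdj g).unit.app M).val.app (op U)).hom m

theorem stalkIso_germ (M : X.Modules) {U : X.Opens} (hz : g.base z ∈ U) (m : M.val.obj (op U)) :
    ((stalkIso g z).app M).hom (germ ((HensSch.pullMod g).obj M) z (U := (Opens.map g.base).obj U) hz (pulled g M m)) =
      ((ModuleCat.extendRestrictScalarsAdj (φ g z)).unit.app ((Groth.L00.Stk.F X (g.base z)).obj M)).hom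
        (Groth.L00.StalkTensor.germ (Groth.L00.Tensor.pre M) (g.base z) hz m) := by
  have h := Adjunction.unit_leftAdjointUniq_hom_app ((HensSch.pullPushAdj g).comp (adj Z z))
    (((Groth.L00.Sky.adj (g.base z)).comp (ModuleCat.extendRestrictScalarsAdj (φ g z))).ofNatIsoRight
      (pushSkyIso g z).symm) M
  have e1 : ((((HensSch.pullPushAdj g).comp (adj Z z)).unit.app M)) =
      (HensSch.pullPushAdj g).unit.app M ≫ (HensSch.pushMod g).map ((adj Z z).unit.app _) := by
    simp [Adjunction.comp]
  have e2 : ((adj Z z).unit.app ((HensSch.pullMod g).obj M)) = toHom _ z (𝟙 _) := by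
    simp [adj]
  have e3 : ((((Groth.L00.Sky.adj (g.base z)).comp (ModuleCat.extendRestrictScalarsAdj (φ g z))).ofNatIsoRight
      (pushSkyIso g z).symm).unit.app M) =
      Groth.L00.Sky.toHom M _ ((ModuleCat.extendRestrictScalarsAdj (φ g z)).unit.app _) ≫
        (pushSkyIso g z).inv.app _ := by
    simp [Adjunction.comp, Adjunction.ofNatIsoRight, Groth.L00.Sky.adj]
    try rfl
  rw [e1, e2, e3] at h
  replace h := congrArg (fun k => k ≫ (pushSkyIso g z).hom.app _) h
  simp only [Category.assoc] at h
  erw [Iso.inv_hom_id_app] at h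
  erw [Category.comp_id] at h
  have h' := congrArg (fun k : M ⟶ Groth.L00.Sky.sky (g.base z) ((ModuleCat.restrictScalars (φ g z)).obj
      ((Groth.L00.Stk.F X (g.base z) ⋙ ModuleCat.extendScalars (φ g z)).obj M)) =>
    (show Groth.L00.Sky.Sec (g.base z) ((ModuleCat.restrictScalars (φ g z)).obj
      ((Groth.L00.Stk.F X (g.base z) ⋙ ModuleCat.extendScalars (φ g z)).obj M)) U from
        (k.val.app (op U)).hom m) ⟨hz⟩) h
  exact h'

end Pull

end Groth.L05.HensSch.Stalk
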