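import Groth.Agent.L05.HensSch.Core
import Mathlib.Topology.Sheaves.SheafCondition.Sites
import Mathlib.AlgebraicGeometry.OpenImmersion

/-!
# The universal property of the henselization of a scheme along a closed subset
-/

set_option autoImplicit false
set_option linter.style.haveILetI false
universe u

open CategoryTheory Opposite TopologicalSpace Topology AlgebraicGeometry IsLocalRing

namespace Groth.L05.HensSch

section Spec

variable {A : Type u} [CommRing A]

/-- Restriction of `a : A` to an open of `Spec A`. -/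
noncomputable def specRes (U₀ : (Spec (CommRingCat.of A)).Opens) :
    A →+* Γ(Spec (CommRingCat.of A), U₀) :=
  ((Spec (CommRingCat.of A)).presheaf.map (homOfLE (le_top : U₀ ≤ ⊤)).op).hom.comp
    (Scheme.ΓSpecIso (CommRingCat.of A)).inv.hom

theorem isUnit_germ_specRes_iff (U₀ : (Spec (CommRingCat.of A)).Opens) (p : Spec (CommRingCat.of A))
    (hp : p ∈ U₀) (a : A) :
    IsUnit ((Spec (CommRingCat.of A)).presheaf.germ U₀ p hp (specRes U₀ a)) ↔
      a ∉ (p : PrimeSpectrum A).asIdeal := by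
  have h1 : (Spec (CommRingCat.of A)).presheaf.germ U₀ p hp (specRes U₀ a) =
      (Spec (CommRingCat.of A)).presheaf.germ ⊤ p trivial ((Scheme.ΓSpecIso (CommRingCat.of A)).inv.hom a) :=
    TopCat.Presheaf.germ_res_apply _ _ p hp _
  rw [h1]
  have h2 := Scheme.mem_basicOpen_top (Spec (CommRingCat.of A)) ((Scheme.ΓSpecIso (CommRingCat.of A)).inv a) p
  have h3 := AlgebraicGeometry.basicOpen_eq_of_affine (R := CommRingCat.of A) a
  exact h2.symm.trans (by rw [h3]; exact Iff.rfl)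

theorem specRes_ext (U₀ : (Spec (CommRingCat.of A)).Opens) (f : A)
    (hU : U₀ = PrimeSpectrum.basicOpen f) {R : Type u} [CommRing R]
    (g₁ g₂ : Γ(Spec (CommRingCat.of A), U₀) →+* R) (h : g₁.comp (specRes U₀) = g₂.comp (specRes U₀)) :
    g₁ = g₂ := by
  let f' : Γ(Spec (CommRingCat.of A), ⊤) := (Scheme.ΓSpecIso (CommRingCat.of A)).inv.hom f
  obtain rfl : U₀ = (Spec (CommRingCat.of A)).basicOpen f' :=
    hU.trans (basicOpen_eq_of_affine (R := CommRingCat.of A) f).symm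
  haveI := (isAffineOpen_top (Spec (CommRingCat.of A))).isLocalization_basicOpen f'
  refine IsLocalization.ringHom_ext (Submonoid.powers f') (RingHom.ext fun t => ?_)
  obtain ⟨a, rfl⟩ : ∃ a, (Scheme.ΓSpecIso (CommRingCat.of A)).inv.hom a = t :=
    ⟨(Scheme.ΓSpecIso (CommRingCat.of A)).hom.hom t,
      congrArg (fun k => k.hom t) (Scheme.ΓSpecIso (CommRingCat.of A)).hom_inv_id⟩
  exact RingHom.congr_fun h a

theorem isHensAway_of_ringEquiv {I : Ideal A} {f : A} {B B' : Type u} [CommRing B] [CommRing B']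
    {φ : A →+* B} (h : HensSch.IsHensAway A I f B φ) (e : B ≃+* B') (φ' : A →+* B')
    (he : ∀ a, φ' a = e (φ a)) : HensSch.IsHensAway A I f B' φ' := by
  obtain rfl : φ' = e.toRingHom.comp φ := RingHom.ext he
  refine ⟨h.1.map e, ?_, fun C _ J g hC hg hgu => ?_⟩
  · haveI := h.2.1
    rw [← Ideal.map_map]
    letI : Algebra B B' := e.toRingHom.toAlgebra
    haveI : Algebra.IsIntegral B B' :=
      ⟨fun x => e.apply_symm_apply x ▸ isIntegral_algebraMap (x := e.symm x)⟩
    exact Groth.L05.henselianRing_map_of_isIntegral (I.map φ) B'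
  · obtain ⟨k, hk, hku⟩ := h.2.2 C J g hC hg hgu
    refine ⟨k.comp e.symm.toRingHom, RingHom.ext fun a => ?_, fun k' hk' => RingHom.ext fun b => ?_⟩
    · show k (e.symm (e (φ a))) = g a
      rw [e.symm_apply_apply]
      exact RingHom.congr_fun hk a
    · have h' := RingHom.congr_fun (hku (k'.comp e.toRingHom) (by rw [← hk']; rfl)) (e.symm b)
      show k' b = k (e.symm b)
      rw [← h']
      exact congrArg k' (e.apply_symm_apply b).symm

end Spec

section Main

variable {X : Scheme.{u}} {Y : Set X} {Xh : LocallyRingedSpace.{u}} {ι : Xh ⟶ X.toLocallyRingedSpace}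
  {Z : LocallyRingedSpace.{u}} (g : Z ⟶ X.toLocallyRingedSpace)
  (b : Z.toTopCat ⟶ Xh.toTopCat) (hb : b ≫ ι.base = g.base)

/-- `g^#` with values in the sections over the preimage through `b`. -/
noncomputable def gPull (P : Opens X) :
    X.presheaf.obj (op P) ⟶ Z.presheaf.obj (op ((Opens.map b).obj ((Opens.map ι.base).obj P))) :=
  g.c.app (op P) ≫ Z.presheaf.map (eqToHom (by rw [← hb]; rfl : (Opens.map b).obj ((Opens.map ι.base).obj P) =
    (Opens.map g.base).obj P)).op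

theorem germ_gPull_iff (P : Opens X) (z : Z) (hz : z ∈ (Opens.map b).obj ((Opens.map ι.base).obj P))
    (t : X.presheaf.obj (op P)) :
    IsUnit (Z.presheaf.germ _ z hz ((gPull g b hb P).hom t)) ↔
      IsUnit (X.presheaf.germ P (g.base z)
        (by rw [← hb]; exact hz) t) := by
  rw [← isUnit_germ_app_iff g P z (by show g.base z ∈ P; rw [← hb]; exact hz) t]
  unfold gPull
  rw [CommRingCat.hom_comp, RingHom.comp_apply]
  exact Iff.of_eq (congrArg IsUnit (TopCat.Presheaf.germ_res_apply Z.presheaf _ z hz _))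

theorem gPull_naturality {P P' : Opens X} (i : P' ⟶ P) :
    gPull g b hb P ≫ Z.presheaf.map ((Opens.map b).map ((Opens.map ι.base).map i)).op =
      X.presheaf.map i.op ≫ gPull g b hb P' := by
  simp only [gPull, Category.assoc, ← Functor.map_comp]
  rw [g.c.naturality_assoc]
  simp only [TopCat.Presheaf.pushforward_obj_map, ← Functor.map_comp]
  rfl

/-- The opens on which sections of the henselization have the universal property. -/
structure Good (P : Opens X) : Prop where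
  uniq : ∀ (U : Opens Z) (hU : U ≤ (Opens.map b).obj ((Opens.map ι.base).obj P))
    (θ₁ θ₂ : Xh.presheaf.obj (op ((Opens.map ι.base).obj P)) ⟶ Z.presheaf.obj (op U)),
    ι.c.app (op P) ≫ θ₁ = gPull g b hb P ≫ Z.presheaf.map (homOfLE hU).op →
    ι.c.app (op P) ≫ θ₂ = gPull g b hb P ≫ Z.presheaf.map (homOfLE hU).op → θ₁ = θ₂
  ext : ∃ θ : Xh.presheaf.obj (op ((Opens.map ι.base).obj P)) ⟶
      Z.presheaf.obj (op ((Opens.map b).obj ((Opens.map ι.base).obj P))),
    ι.c.app (op P) ≫ θ = gPull g b hb P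
  loc : ∀ θ : Xh.presheaf.obj (op ((Opens.map ι.base).obj P)) ⟶
      Z.presheaf.obj (op ((Opens.map b).obj ((Opens.map ι.base).obj P))),
    ι.c.app (op P) ≫ θ = gPull g b hb P →
    ∀ (z : Z) (hz : z ∈ (Opens.map b).obj ((Opens.map ι.base).obj P))
      (s : Xh.presheaf.obj (op ((Opens.map ι.base).obj P))),
      IsUnit (Z.presheaf.germ _ z hz (θ.hom s)) → IsUnit (Xh.presheaf.germ _ (b z) hz s)

variable (hh : HensSch.IsHenselizationAlong X Y Xh ι) (hZ : HensSch.IsHensScheme Z)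
  (hg : Set.range g.base ⊆ Y)

include hh hZ hg in
theorem exists_good (y : Xh) (O : Opens X) (hy : ι.base y ∈ O) :
    ∃ P : Opens X, Good g b hb P ∧ ι.base y ∈ P ∧ P ≤ O := by
  obtain ⟨-, -, hrange, hchart⟩ := hh
  obtain ⟨A, _, j, _, ⟨p, hp⟩, V, v, _, π, hv, hcomm, hsph⟩ := hchart (ι.base y) (hrange ▸ ⟨y, rfl⟩)
  obtain ⟨V₀, ⟨f, rfl⟩, hpf, hfO⟩ := PrimeSpectrum.isTopologicalBasis_basic_opens.exists_subset_of_mem_open
    (a := (p : PrimeSpectrum A)) (u := j.base ⁻¹' (O : Set X)) (by show j.base p ∈ O; rw [hp]; exact hy)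
    (O.isOpen.preimage j.continuous)
  let P : X.Opens := j ''ᵁ PrimeSpectrum.basicOpen f
  let U₀ : (Spec (CommRingCat.of A)).Opens := j ⁻¹ᵁ P
  have hU₀ : U₀ = PrimeSpectrum.basicOpen f := j.preimage_image_eq _
  refine ⟨P, ?_, ⟨p, hpf, hp⟩, by rintro _ ⟨q, hq, rfl⟩; exact hfO hq⟩
  let I := PrimeSpectrum.vanishingIdeal (j.base ⁻¹' Y)
  haveI : IsIso (j.app P) := Scheme.Hom.isIso_app _ _ (by rintro _ ⟨q, -, rfl⟩; exact ⟨q, rfl⟩)
  let α : A →+* (X.presheaf.obj (op P) : Type u) := (inv (j.app P)).hom.comp (specRes U₀)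
  have hα : ∀ a, (j.app P).hom (α a) = specRes U₀ a := fun a =>
    congrArg (fun k => k.hom (specRes U₀ a)) (IsIso.inv_hom_id (j.app P))
  have hαext : ∀ {R : CommRingCat.{u}} (k₁ k₂ : X.presheaf.obj (op P) ⟶ R),
      (∀ a, k₁.hom (α a) = k₂.hom (α a)) → k₁ = k₂ := by
    intro R k₁ k₂ hk
    rw [← cancel_epi (inv (j.app P))]
    exact CommRingCat.hom_ext (specRes_ext U₀ f hU₀ _ _ (RingHom.ext hk))
  have hαunit : ∀ a (x : X) (hx : x ∈ P) (q : Spec (CommRingCat.of A)), j.base q = x →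
      (IsUnit (X.presheaf.germ P x hx (α a)) ↔ a ∉ (q : PrimeSpectrum A).asIdeal) := by
    intro a x hx q hqx
    subst hqx
    rw [← isUnit_germ_app_iff j.toLRSHom P q hx (α a), ← isUnit_germ_specRes_iff U₀ q hx a, ← hα a]
  have hαf : IsUnit (α f) := by
    refine RingedSpace.isUnit_of_isUnit_germ X.toLocallyRingedSpace.toRingedSpace P _ fun x hx => ?_
    obtain ⟨q, hq, hqx⟩ := id hx
    exact (hαunit f x hx q hqx).mpr hq
  -- the henselization on the chart, moved to `Xh`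
  have hens' : ∀ U₁ : Opens (PrimeSpectrum A), U₁ = PrimeSpectrum.basicOpen f →
      HensSch.IsHensAway A I f (V.presheaf.obj (op ((Opens.map π.base).obj U₁))) (HensSch.secMap π U₁) :=
    fun U₁ h => h ▸ hsph.2.2 f
  have hens : ∀ m : V ⟶ X.toLocallyRingedSpace, m = π ≫ j.toLRSHom →
      HensSch.IsHensAway A I f (V.presheaf.obj (op ((Opens.map m.base).obj P))) ((m.c.app (op P)).hom.comp α) := by
    rintro _ rfl
    have heq : ((π ≫ j.toLRSHom).c.app (op P)).hom.comp α = HensSch.secMap π U₀ := by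
      refine RingHom.ext fun a => ?_
      show (π.c.app (op U₀)).hom ((j.app P).hom (α a)) = _
      rw [hα]
      exact congrArg (fun k => k.hom ((Scheme.ΓSpecIso (CommRingCat.of A)).inv.hom a))
        (π.c.naturality (homOfLE (le_top : U₀ ≤ ⊤)).op)
    rw [heq]
    exact hens' U₀ hU₀
  let O' : Opens Xh := (Opens.map ι.base).obj P
  have hO' : O' = (LocallyRingedSpace.IsOpenImmersion.opensFunctor v).obj ((Opens.map v.base).obj O') := by
    refine Opens.ext (Set.Subset.antisymm (fun x hx => ?_) ?_)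
    · obtain ⟨q, -, hq⟩ := id (hx : ι.base x ∈ P)
      have hxv : x ∈ Set.range v.base := by rw [hv]; exact ⟨q, hq⟩
      obtain ⟨w, rfl⟩ := hxv
      exact ⟨w, hx, rfl⟩
    · rintro _ ⟨w, hw, rfl⟩
      exact hw
  haveI : IsIso (v.c.app (op O')) := PresheafedSpace.IsOpenImmersion.c_iso' v.toHom _ hO'
  let φ : A →+* (Xh.presheaf.obj (op O') : Type u) := (ι.c.app (op P)).hom.comp α
  have hH : HensSch.IsHensAway A I f (Xh.presheaf.obj (op O')) φ := by
    refine isHensAway_of_ringEquiv (hens _ hcomm) (asIso (v.c.app (op O'))).commRingCatIsoToRingEquiv.symm φ fun a => ?_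
    exact (RingEquiv.symm_apply_apply _ (φ a)).symm
  -- points of `Z` see `I` as non-units
  have hI : ∀ a ∈ I, ∀ (z : Z) (hz : z ∈ (Opens.map b).obj O'),
      ¬ IsUnit (Z.presheaf.germ _ z hz ((gPull g b hb P).hom (α a))) := by
    intro a ha z hz hu
    rw [germ_gPull_iff] at hu
    obtain ⟨q, -, hq⟩ := (show g.base z ∈ P by rw [← hb]; exact hz)
    refine (hαunit a _ _ q hq).mp hu ((PrimeSpectrum.mem_vanishingIdeal _ _).mp ha q ?_)
    exact (congrArg (· ∈ Y) hq).mpr (hg ⟨z, rfl⟩)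
  refine ⟨fun U hU θ₁ θ₂ h₁ h₂ => ?_, ?_, ?_⟩
  · refine CommRingCat.hom_ext (hom_unique hZ hH U θ₁.hom θ₂.hom
      (RingHom.ext fun a => congrArg (fun k => k.hom (α a)) (h₁.trans h₂.symm)) fun a ha z hz hu => ?_)
    have h := congrArg (fun k => k.hom (α a)) h₁
    rw [show θ₁.hom (φ a) = _ from h] at hu
    refine hI a ha z (hU hz) ?_
    exact (TopCat.Presheaf.germ_res_apply Z.presheaf (homOfLE hU) z hz ((gPull g b hb P).hom (α a))) ▸ hu
  · obtain ⟨θ, hθ⟩ := exists_hom hZ hH _ ((gPull g b hb P).hom.comp α) ((hαf.map (gPull g b hb P).hom)) hI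
    exact ⟨CommRingCat.ofHom θ, hαext _ _ fun a => RingHom.congr_fun hθ a⟩
  · intro θ hθ z hz s hu
    have hφ : ∀ a, θ.hom (φ a) = (gPull g b hb P).hom (α a) := fun a => congrArg (fun k => k.hom (α a)) hθ
    obtain ⟨c, n, hc⟩ := exists_fraction hH s
    obtain ⟨q, -, hq⟩ := (show ι.base (b z) ∈ P from hz)
    have hgq : j.base q = g.base z := hq.trans (by rw [← hb]; rfl)
    have hy : ∀ a, IsUnit (Xh.presheaf.germ O' (b z) hz (φ a)) ↔ a ∉ (q : PrimeSpectrum A).asIdeal := fun a =>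
      (isUnit_germ_app_iff ι P (b z) hz (α a)).trans (hαunit a _ _ q hq)
    have hzq : ∀ a, IsUnit (Z.presheaf.germ _ z hz (θ.hom (φ a))) ↔ a ∉ (q : PrimeSpectrum A).asIdeal := fun a => by
      rw [hφ, germ_gPull_iff]
      exact hαunit a _ _ q hgq
    by_contra hns
    have hmY : ∀ {r}, r ∈ I.map φ → (Xh.presheaf.germ O' (b z) hz).hom r ∈ maximalIdeal _ := by
      intro r hr
      refine (Ideal.map_le_iff_le_comap.mpr ?_ : I.map φ ≤ (maximalIdeal _).comap (Xh.presheaf.germ O' (b z) hz).hom) hr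
      intro a ha hu'
      refine (hy a).mp hu' ((PrimeSpectrum.mem_vanishingIdeal _ _).mp ha q ?_)
      exact (congrArg (· ∈ Y) hgq).mpr (hg ⟨z, rfl⟩)
    have hmZ : ∀ {r}, r ∈ I.map φ → (Z.presheaf.germ _ z hz).hom (θ.hom r) ∈ maximalIdeal _ := by
      intro r hr
      refine (Ideal.map_le_iff_le_comap.mpr ?_ : I.map φ ≤ (maximalIdeal _).comap
        ((Z.presheaf.germ _ z hz).hom.comp θ.hom)) hr
      intro a ha hu'
      refine (hzq a).mp hu' ((PrimeSpectrum.mem_vanishingIdeal _ _).mp ha q ?_)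
      exact (congrArg (· ∈ Y) hgq).mpr (hg ⟨z, rfl⟩)
    have hcq : c ∈ (q : PrimeSpectrum A).asIdeal := by
      by_contra hcq
      have h1 := hmY hc
      have h2 : (Xh.presheaf.germ O' (b z) hz).hom (s * φ f ^ n) ∈ maximalIdeal _ := by
        rw [map_mul]; exact Ideal.mul_mem_right _ _ hns
      rw [map_sub] at h1
      have h3 := sub_mem h2 h1
      rw [sub_sub_cancel] at h3
      exact h3 ((hy c).mpr hcq)
    have h1 := hmZ hc
    rw [map_sub, map_sub] at h1
    have h2 : (Z.presheaf.germ _ z hz).hom (θ.hom (φ c)) ∈ maximalIdeal _ := fun h => (hzq c).mp h hcq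
    have h3 := add_mem h1 h2
    rw [sub_add_cancel, map_mul, map_mul] at h3
    exact h3 (hu.mul (((hH.1.pow n).map θ.hom).map (Z.presheaf.germ _ z hz).hom))

include hb hh hZ hg in
/-- The morphism to the henselization with given underlying map. -/
theorem exists_lift : ∃ g' : Z ⟶ Xh, g' ≫ ι = g := by
  classical
  let J := {P : Opens X // Good g b hb P}
  let B : J → Opens Xh := fun P => (Opens.map ι.base).obj P.1
  have hbasis : Opens.IsBasis (Set.range B) := by
    rw [Opens.isBasis_iff_nbhd]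
    intro O y hy
    obtain ⟨O', hO', hOO'⟩ := hh.2.1.isInducing.isOpen_iff.mp O.isOpen
    obtain ⟨P, hP, hyP, hPO⟩ := exists_good g b hb hh hZ hg y ⟨O', hO'⟩
      (by show y ∈ ι.base ⁻¹' O'; rw [hOO']; exact hy)
    refine ⟨B ⟨P, hP⟩, ⟨⟨P, hP⟩, rfl⟩, hyP, fun x hx => ?_⟩
    show x ∈ (O : Set Xh)
    rw [← hOO']
    exact hPO hx
  choose θ hθ using fun P : J => P.2.ext
  have hle : ∀ (P P' : J) (h : P'.1 ≤ P.1),
      θ P ≫ Z.presheaf.map ((Opens.map b).map ((Opens.map ι.base).map (homOfLE h))).op =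
        Xh.presheaf.map ((Opens.map ι.base).map (homOfLE h)).op ≫ θ P' := by
    intro P P' h
    refine P.2.uniq _ (leOfHom ((Opens.map b).map ((Opens.map ι.base).map (homOfLE h)))) _ _ ?_ ?_
    · rw [← Category.assoc, hθ]; rfl
    · rw [← Category.assoc]
      erw [← ι.c.naturality (homOfLE h).op]
      rw [Category.assoc, hθ, ← gPull_naturality]
      rfl
  have hnat : ∀ (P P' : J) (i : B P' ⟶ B P),
      θ P ≫ Z.presheaf.map ((Opens.map b).map i).op = Xh.presheaf.map i.op ≫ θ P' := by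
    intro P P' i
    refine CommRingCat.hom_ext (RingHom.ext fun s => ?_)
    have hex : ∀ z : ((Opens.map b).obj (B P') : Opens Z), ∃ P'' : J, P''.1 ≤ P.1 ∧ P''.1 ≤ P'.1 ∧ b z.1 ∈ B P'' := by
      intro z
      obtain ⟨P'', hP'', hzP, hle'⟩ := exists_good g b hb hh hZ hg (b z.1) (P.1 ⊓ P'.1) ⟨leOfHom i z.2, z.2⟩
      exact ⟨⟨P'', hP''⟩, hle'.trans inf_le_left, hle'.trans inf_le_right, hzP⟩
    choose Q hQ hQ' hQz using hex
    refine TopCat.Sheaf.eq_of_locally_eq' Z.sheaf (fun z => (Opens.map b).obj (B (Q z))) _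
      (fun z => (Opens.map b).map ((Opens.map ι.base).map (homOfLE (hQ' z))))
      (fun z hz => Opens.mem_iSup.mpr ⟨⟨z, hz⟩, hQz ⟨z, hz⟩⟩) _ _ fun z => ?_
    have e1 := congrArg (fun k => k.hom s) (hle P (Q z) (hQ z))
    have e2 := congrArg (fun k => k.hom ((Xh.presheaf.map i.op).hom s)) (hle P' (Q z) (hQ' z))
    simp only [CommRingCat.hom_comp, RingHom.comp_apply] at e1 e2 ⊢
    refine Eq.trans ?_ e2.symm
    have e3 : (Xh.presheaf.map ((Opens.map ι.base).map (homOfLE (hQ z))).op).hom s =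
        (Xh.presheaf.map ((Opens.map ι.base).map (homOfLE (hQ' z))).op).hom ((Xh.presheaf.map i.op).hom s) := by
      rw [← RingHom.comp_apply (Xh.presheaf.map ((Opens.map ι.base).map (homOfLE (hQ' z))).op).hom,
        ← CommRingCat.hom_comp, ← Functor.map_comp]
      rfl
    rw [← e3, ← e1]
    show (Z.presheaf.map _).hom ((Z.presheaf.map _).hom _) = _
    rw [← RingHom.comp_apply (Z.presheaf.map _).hom, ← CommRingCat.hom_comp, ← Functor.map_comp]
    rfl
  let F' : TopCat.Sheaf CommRingCat.{u} Xh.toTopCat := (TopCat.Sheaf.pushforward CommRingCat.{u} b).obj Z.sheaf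
  let α : (inducedFunctor B).op ⋙ Xh.presheaf ⟶ (inducedFunctor B).op ⋙ F'.1 :=
    { app := fun P => θ P.unop
      naturality := fun P P' i => (hnat P.unop P'.unop i.unop.hom).symm }
  let c : Xh.presheaf ⟶ F'.1 := TopCat.Sheaf.restrictHomEquivHom Xh.presheaf F' hbasis α
  have hc : ∀ P : J, c.app (op (B P)) = θ P := fun P =>
    TopCat.Sheaf.extend_hom_app Xh.presheaf F' hbasis α P
  let gP : Z.toPresheafedSpace.Hom Xh.toPresheafedSpace := { base := b, c := c }
  let g' : Z ⟶ Xh := LocallyRingedSpace.Hom.mk gP fun z => by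
    refine ⟨fun t ht => ?_⟩
    obtain ⟨O, hzO, s, rfl⟩ := Xh.presheaf.exists_germ_eq t
    obtain ⟨_, ⟨P, rfl⟩, hzP, hPO⟩ := Opens.isBasis_iff_nbhd.mp hbasis hzO
    rw [← TopCat.Presheaf.germ_res_apply Xh.presheaf (homOfLE hPO) (b z) hzP s] at ht ⊢
    refine P.2.loc (θ P) (hθ P) z hzP _ ?_
    rw [← hc P]
    have h := PresheafedSpace.stalkMap_germ_apply gP (B P) z hzP ((Xh.presheaf.map (homOfLE hPO).op).hom s)
    exact h ▸ ht
  refine ⟨g', LocallyRingedSpace.Hom.ext' (PresheafedSpace.ext _ _ hb ?_)⟩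
  ext O t
  have hex : ∀ z : ((Opens.map g.base).obj O : Opens Z), ∃ P : J, P.1 ≤ O ∧ b z.1 ∈ B P := by
    intro z
    obtain ⟨P, hP, hzP, hle'⟩ := exists_good g b hb hh hZ hg (b z.1) O (by
      show (b ≫ ι.base) z.1 ∈ O
      rw [hb]; exact z.2)
    exact ⟨⟨P, hP⟩, hle', hzP⟩
  choose Q hQ hQz using hex
  refine TopCat.Sheaf.eq_of_locally_eq' Z.sheaf (fun z => (Opens.map b).obj (B (Q z))) _
    (fun z => homOfLE (fun x hx => by
      show g.base x ∈ O
      rw [← hb]; exact hQ z hx))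
    (fun z hz => Opens.mem_iSup.mpr ⟨⟨z, hz⟩, hQz ⟨z, hz⟩⟩) _ _ fun z => ?_
  have e1 : ι.c.app (op O) ≫ c.app (op ((Opens.map ι.base).obj O)) ≫
      Z.presheaf.map ((Opens.map b).map ((Opens.map ι.base).map (homOfLE (hQ z)))).op =
      gPull g b hb O ≫ Z.presheaf.map ((Opens.map b).map ((Opens.map ι.base).map (homOfLE (hQ z)))).op := by
    rw [gPull_naturality, ← hθ (Q z), ← hc (Q z)]
    have hn := c.naturality ((Opens.map ι.base).map (homOfLE (hQ z))).op
    erw [← hn]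
    erw [ι.c.naturality_assoc (homOfLE (hQ z)).op]
    rfl
  have e2 := congrArg (fun k => k.hom t) e1
  refine Eq.trans ?_ (Eq.trans e2 ?_)
  · show (Z.presheaf.map _).hom ((Z.presheaf.map _).hom ((c.app _).hom ((ι.c.app (op O)).hom t))) =
      (Z.presheaf.map _).hom ((c.app _).hom ((ι.c.app (op O)).hom t))
    rw [← RingHom.comp_apply (Z.presheaf.map _).hom, ← CommRingCat.hom_comp, ← Functor.map_comp]
    rfl
  · show (Z.presheaf.map _).hom ((Z.presheaf.map _).hom ((g.c.app (op O)).hom t)) =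
      (Z.presheaf.map _).hom ((g.c.app (op O)).hom t)
    rw [← RingHom.comp_apply (Z.presheaf.map _).hom, ← CommRingCat.hom_comp, ← Functor.map_comp]
    rfl

end Main

theorem lift_unique {X : Scheme.{u}} {Y : Set X} {Xh : LocallyRingedSpace.{u}} {ι : Xh ⟶ X.toLocallyRingedSpace}
    (hh : HensSch.IsHenselizationAlong X Y Xh ι) {Z : LocallyRingedSpace.{u}} (hZ : HensSch.IsHensScheme Z)
    (g₁ g₂ : Z ⟶ Xh) (hg : Set.range (g₁ ≫ ι).base ⊆ Y) (h : g₁ ≫ ι = g₂ ≫ ι) : g₁ = g₂ := by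
  let g := g₁ ≫ ι
  have hb₂ : g₂.base = g₁.base := by
    refine TopCat.hom_ext (ContinuousMap.ext fun z => hh.2.1.injective ?_)
    exact (congrArg (fun k => k.base z) h).symm
  obtain ⟨⟨b, c₁⟩, p₁⟩ := g₁
  obtain ⟨⟨b₂, c₂⟩, p₂⟩ := g₂
  obtain rfl : b₂ = b := hb₂
  suffices c₁ = c₂ by subst this; rfl
  let J := {P : Opens X // Good g b₂ rfl P}
  let B : J → Opens Xh := fun P => (Opens.map ι.base).obj P.1
  have hbasis : Opens.IsBasis (Set.range B) := by
    rw [Opens.isBasis_iff_nbhd]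
    intro O y hy
    obtain ⟨O', hO', hOO'⟩ := hh.2.1.isInducing.isOpen_iff.mp O.isOpen
    obtain ⟨P, hP, hyP, hPO⟩ := exists_good g b₂ rfl hh hZ hg y ⟨O', hO'⟩
      (by show y ∈ ι.base ⁻¹' O'; rw [hOO']; exact hy)
    refine ⟨B ⟨P, hP⟩, ⟨⟨P, hP⟩, rfl⟩, hyP, fun x hx => ?_⟩
    show x ∈ (O : Set Xh)
    rw [← hOO']
    exact hPO hx
  refine TopCat.Sheaf.hom_ext Xh.presheaf ((TopCat.Sheaf.pushforward CommRingCat.{u} b₂).obj Z.sheaf) hbasis fun P => ?_
  have hcongr := PresheafedSpace.congr_app (congrArg LocallyRingedSpace.Hom.toHom h) (op P.1)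
  refine P.2.uniq _ le_rfl _ _ ?_ ?_
  · simp only [gPull, Category.assoc, ← Functor.map_comp]
    show _ = (ι.c.app (op P.1) ≫ c₁.app _) ≫ Z.presheaf.map _
    rw [Category.assoc]
    exact (congrArg (ι.c.app (op P.1) ≫ ·) (show c₁.app _ = c₁.app _ ≫ Z.presheaf.map (𝟙 _) by simp)).trans rfl
  · simp only [gPull, Category.assoc, ← Functor.map_comp]
    show _ = (ι.c.app (op P.1) ≫ c₁.app _) ≫ Z.presheaf.map _
    refine Eq.trans ?_ (congrArg (· ≫ Z.presheaf.map _) hcongr.symm)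
    erw [Category.assoc, ← Functor.map_comp]
    exact (congrArg (ι.c.app (op P.1) ≫ ·) (show c₂.app _ = c₂.app _ ≫ Z.presheaf.map (𝟙 _) by simp)).trans rfl

theorem existsUnique_lift {X : Scheme.{u}} {Y : Set X} {Xh : LocallyRingedSpace.{u}} {ι : Xh ⟶ X.toLocallyRingedSpace}
    (hh : HensSch.IsHenselizationAlong X Y Xh ι) {Z : LocallyRingedSpace.{u}} (hZ : HensSch.IsHensScheme Z)
    (g : Z ⟶ X.toLocallyRingedSpace) (hg : Set.range g.base ⊆ Y) : ∃! g' : Z ⟶ Xh, g' ≫ ι = g := by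
  have hmem : ∀ z, g.base z ∈ Set.range ι.base := fun z => hh.2.2.1 ▸ hg ⟨z, rfl⟩
  choose b hb using hmem
  have hcont : Continuous b := hh.2.1.isInducing.continuous_iff.mpr (by
    rw [show ⇑(ι.base.hom) ∘ b = ⇑(g.base.hom) from funext hb]
    exact g.base.hom.continuous)
  obtain ⟨g', hg'⟩ := exists_lift g (TopCat.ofHom ⟨b, hcont⟩) (TopCat.hom_ext (ContinuousMap.ext hb)) hh hZ hg
  exact ⟨g', hg', fun g'' hg'' => lift_unique hh hZ g'' g' (by rw [hg'']; exact hg) (hg''.trans hg'.symm)⟩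

end Groth.L05.HensSch
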