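import Groth.Agent.L05.HensSch.Stalk
import Groth.Agent.L05.HensSch.Univ
import Groth.Agent.S1971

/-!
# The local rings of a henselization of a scheme are pair henselizations
-/

set_option autoImplicit false
set_option linter.style.haveILetI false
set_option backward.isDefEq.respectTransparency false
set_option backward.isDefEq.respectTransparency.types false

universe u

open CategoryTheory CategoryTheory.Limits AlgebraicGeometry Opposite TopologicalSpace IsLocalRing

noncomputable section

namespace Groth.L05.HensSch.StalkHens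

section Equiv

theorem isPairHenselization_of_equiv {R S R' S' : Type u} [CommRing R] [CommRing S] [CommRing R'] [CommRing S']
    [Algebra R S] [Algebra R' S'] {I : Ideal R} {I' : Ideal R'} (e₁ : R ≃+* R') (e₂ : S ≃+* S')
    (he : ∀ r, e₂ (algebraMap R S r) = algebraMap R' S' (e₁ r)) (hI : I' = I.map e₁.toRingHom)
    (h : Hens2.IsPairHenselization R I S) : Hens2.IsPairHenselization R' I' S' := by
  subst hI
  have he' : (algebraMap R' S').comp e₁.toRingHom = e₂.toRingHom.comp (algebraMap R S) :=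
    RingHom.ext fun r => (he r).symm
  refine ⟨?_, fun C _ J g hC hg => ?_⟩
  · rw [Ideal.map_map, he', ← Ideal.map_map]
    haveI := h.1
    letI : Algebra S S' := e₂.toRingHom.toAlgebra
    haveI : Algebra.IsIntegral S S' :=
      ⟨fun x => e₂.apply_symm_apply x ▸ isIntegral_algebraMap (x := e₂.symm x)⟩
    exact Groth.L05.henselianRing_map_of_isIntegral (I.map (algebraMap R S)) S'
  · obtain ⟨k, hk, hku⟩ := h.2 C J (g.comp e₁.toRingHom) hC (by rwa [← Ideal.map_map])
    refine ⟨k.comp e₂.symm.toRingHom, RingHom.ext fun r => ?_, fun k' hk' => RingHom.ext fun b => ?_⟩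
    · show k (e₂.symm (algebraMap R' S' r)) = g r
      rw [← e₁.apply_symm_apply r, ← he, e₂.symm_apply_apply]
      exact RingHom.congr_fun hk (e₁.symm r)
    · have h1 := hku (k'.comp e₂.toRingHom) (show (k'.comp e₂.toRingHom).comp (algebraMap R S) = g.comp e₁.toRingHom by
      rw [← hk', RingHom.comp_assoc, RingHom.comp_assoc, he'])
      show k' b = k (e₂.symm b)
      rw [← h1]
      exact congrArg k' (e₂.apply_symm_apply b).symm

end Equiv

section Sph

variable {A : Type u} [CommRing A] {I : Ideal A} {V : LocallyRingedSpace.{u}} {π : V ⟶ HensSch.specLRS A}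
  (hV : HensSch.IsSph A I V π) (v : V)

/-- the local ring of the affine scheme -/
abbrev R (A : Type u) [CommRing A] (p : Spec (CommRingCat.of A)) : Type u :=
  (Spec (CommRingCat.of A)).presheaf.stalk p

/-- the map to the local ring -/
abbrev toStalk (A : Type u) [CommRing A] (p : Spec (CommRingCat.of A)) : A →+* R A p :=
  ((Spec (CommRingCat.of A)).presheaf.germ ⊤ p trivial).hom.comp (Scheme.ΓSpecIso (CommRingCat.of A)).inv.hom

/-- the sections over the preimage of a basic open -/
abbrev H (π : V ⟶ HensSch.specLRS A) (f : A) : Type u := V.presheaf.obj (op (HensSch.dOpen π f))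

include hV in
theorem exists_basic (U : Opens V) (hv : v ∈ U) : ∃ f : A, v ∈ HensSch.dOpen π f ∧ HensSch.dOpen π f ≤ U := by
  obtain ⟨O, hO, hOU⟩ := hV.1.isInducing.isOpen_iff.mp U.isOpen
  obtain ⟨_, ⟨f, rfl⟩, hf, hfO⟩ := PrimeSpectrum.isTopologicalBasis_basic_opens.exists_subset_of_mem_open
    (a := π.base v) (by
      have h : v ∈ π.base ⁻¹' O := by rw [hOU]; exact hv
      exact h) hO
  refine ⟨f, hf, fun x hx => ?_⟩
  show x ∈ (U : Set V)
  rw [← hOU]
  exact hfO hx

omit v in
theorem secMap_res {f g : A} (hle : HensSch.dOpen π g ≤ HensSch.dOpen π f) (a : A) :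
    (V.presheaf.map (homOfLE hle).op).hom (HensSch.secMap π (PrimeSpectrum.basicOpen f) a) =
      HensSch.secMap π (PrimeSpectrum.basicOpen g) a := by
  change (V.presheaf.map _).hom ((V.presheaf.map _).hom _) = (V.presheaf.map _).hom _
  rw [← ConcreteCategory.comp_apply, ← V.presheaf.map_comp]
  rfl

omit v in
theorem res_mem_map {f g : A} (hle : HensSch.dOpen π g ≤ HensSch.dOpen π f) {b : H π f}
    (hb : b ∈ I.map (HensSch.secMap π (PrimeSpectrum.basicOpen f))) :
    (V.presheaf.map (homOfLE hle).op).hom b ∈ I.map (HensSch.secMap π (PrimeSpectrum.basicOpen g)) := by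
  have h := Ideal.mem_map_of_mem (V.presheaf.map (homOfLE hle).op).hom hb
  rw [Ideal.map_map, show (V.presheaf.map (homOfLE hle).op).hom.comp (HensSch.secMap π (PrimeSpectrum.basicOpen f)) =
    HensSch.secMap π (PrimeSpectrum.basicOpen g) from RingHom.ext (secMap_res hle)] at h
  exact h

theorem germ_secMap (U : Opens (PrimeSpectrum A)) (hv : v ∈ (Opens.map π.base).obj U) (a : A) :
    V.presheaf.germ _ v hv (HensSch.secMap π U a) = Stalk.φ π v (toStalk A (π.base v) a) := by
  rw [RingHom.comp_apply, Stalk.germ_stalkMap π v ⊤ trivial]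
  exact TopCat.Presheaf.germ_res_apply V.presheaf _ v hv _

include hV in
theorem exists_common (s : Finset (V.presheaf.stalk v)) : ∃ (f : A) (hf : v ∈ HensSch.dOpen π f),
    ∀ t ∈ s, ∃ b : H π f, V.presheaf.germ _ v hf b = t := by
  classical
  induction s using Finset.induction with
  | empty => exact ⟨1, by show (1 : A) ∉ (π.base v : PrimeSpectrum A).asIdeal
                          exact (Ideal.ne_top_iff_one _).mp (π.base v : PrimeSpectrum A).2.ne_top, by simp⟩
  | insert t s _ ih =>
    obtain ⟨f, hf, hs⟩ := ih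
    obtain ⟨U, hU, b, rfl⟩ := TopCat.Presheaf.exists_germ_eq (F := V.presheaf) (x := v) t
    obtain ⟨g, hg, hgle⟩ := exists_basic hV v (U ⊓ HensSch.dOpen π f) ⟨hU, hf⟩
    refine ⟨g, hg, fun t ht => ?_⟩
    rcases Finset.mem_insert.mp ht with rfl | ht
    · exact ⟨(V.presheaf.map (homOfLE (hgle.trans inf_le_left)).op).hom b,
        TopCat.Presheaf.germ_res_apply V.presheaf _ v hg _⟩
    · obtain ⟨c, rfl⟩ := hs t ht
      exact ⟨(V.presheaf.map (homOfLE (hgle.trans inf_le_right)).op).hom c,
        TopCat.Presheaf.germ_res_apply V.presheaf _ v hg _⟩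

/-- the ideal at the point -/
abbrev J : Ideal (V.presheaf.stalk v) := (I.map (toStalk A (π.base v))).map (Stalk.φ π v)

include hV in
theorem exists_of_mem_J {t : V.presheaf.stalk v} (ht : t ∈ J (I := I) (π := π) v) :
    ∃ (f : A) (hf : v ∈ HensSch.dOpen π f) (b : H π f),
      b ∈ I.map (HensSch.secMap π (PrimeSpectrum.basicOpen f)) ∧ V.presheaf.germ _ v hf b = t := by
  rw [J, Ideal.map_map] at ht
  have h1 : v ∈ HensSch.dOpen π 1 := (Ideal.ne_top_iff_one _).mp (π.base v : PrimeSpectrum A).2.ne_top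
  have hr : ∀ (f g : A) (hg : v ∈ HensSch.dOpen π g) (hle : HensSch.dOpen π g ≤ HensSch.dOpen π f) (b : H π f),
      b ∈ I.map (HensSch.secMap π (PrimeSpectrum.basicOpen f)) →
      (V.presheaf.map (homOfLE hle).op).hom b ∈ I.map (HensSch.secMap π (PrimeSpectrum.basicOpen g)) :=
    fun f g _ hle b hb => res_mem_map hle hb
  refine Submodule.span_induction ?_ ?_ ?_ ?_ ht
  · rintro _ ⟨a, ha, rfl⟩
    exact ⟨1, h1, _, Ideal.mem_map_of_mem _ ha, germ_secMap v _ h1 a⟩
  · exact ⟨1, h1, 0, zero_mem _, map_zero (V.presheaf.germ _ v h1).hom⟩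
  · rintro x y - - ⟨f, hf, b, hb, rfl⟩ ⟨f', hf', b', hb', rfl⟩
    obtain ⟨g, hg, hle⟩ := exists_basic hV v (HensSch.dOpen π f ⊓ HensSch.dOpen π f') ⟨hf, hf'⟩
    refine ⟨g, hg, _, add_mem (hr f g hg (hle.trans inf_le_left) b hb) (hr f' g hg (hle.trans inf_le_right) b' hb'), ?_⟩
    rw [map_add]
    congr 1 <;> exact TopCat.Presheaf.germ_res_apply V.presheaf _ v hg _
  · rintro c x - ⟨f, hf, b, hb, rfl⟩
    obtain ⟨U, hU, c, rfl⟩ := TopCat.Presheaf.exists_germ_eq (F := V.presheaf) (x := v) c
    obtain ⟨g, hg, hle⟩ := exists_basic hV v (U ⊓ HensSch.dOpen π f) ⟨hU, hf⟩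
    refine ⟨g, hg, (V.presheaf.map (homOfLE (hle.trans inf_le_left)).op).hom c * _,
      Ideal.mul_mem_left _ _ (hr f g hg (hle.trans inf_le_right) b hb), ?_⟩
    rw [map_mul, smul_eq_mul]
    congr 1 <;> exact TopCat.Presheaf.germ_res_apply V.presheaf _ v hg _

include hV in
theorem J_le_maximalIdeal : J (I := I) (π := π) v ≤ maximalIdeal _ := by
  rw [J, Ideal.map_map, Ideal.map_le_iff_le_comap]
  intro a ha hu
  rw [RingHom.comp_apply, ← germ_secMap v ⊤ trivial, isUnit_germ_secMap_iff] at hu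
  have h : π.base v ∈ PrimeSpectrum.zeroLocus (I : Set A) := hV.2.1 ▸ ⟨v, rfl⟩
  exact hu (h ha)

include hV in
theorem henselianRing_J : HenselianRing (V.presheaf.stalk v) (J (I := I) (π := π) v) := by
  classical
  refine ⟨(J_le_maximalIdeal hV v).trans (IsLocalRing.maximalIdeal_le_jacobson ⊥), fun P hP a₀ h₀ hu => ?_⟩
  -- the coefficients come from a basic open
  obtain ⟨f, hf, hs⟩ := exists_common hV v (insert a₀ (insert (1 : V.presheaf.stalk v) P.coeffs))
  let ψ : H π f →+* V.presheaf.stalk v := (V.presheaf.germ _ v hf).hom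
  have hlift : P ∈ Polynomial.lifts ψ := by
    rw [Polynomial.lifts_iff_coeff_lifts]
    intro n
    by_cases hn : P.coeff n = 0
    · exact ⟨0, by rw [map_zero, hn]⟩
    · exact hs _ (by simp [Polynomial.coeff_mem_coeffs hn])
  obtain ⟨P₁, hP₁, -, hP₁m⟩ := Polynomial.lifts_and_natDegree_eq_and_monic hlift hP
  obtain ⟨b₀, hb₀⟩ := hs a₀ (Finset.mem_insert_self _ _)
  have he : ψ (P₁.eval b₀) = P.eval a₀ := by
    rw [← hP₁, Polynomial.eval_map, ← hb₀]
    exact (Polynomial.eval₂_at_apply ψ b₀).symm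
  have hd : ψ (P₁.derivative.eval b₀) = P.derivative.eval a₀ := by
    rw [← hP₁, Polynomial.derivative_map, Polynomial.eval_map, ← hb₀]
    exact (Polynomial.eval₂_at_apply ψ b₀).symm
  obtain ⟨f', hf', c, hc, hce⟩ := exists_of_mem_J hV v h₀
  rw [← he] at hce
  -- the derivative is a unit near the point
  have hdu : IsUnit (ψ (P₁.derivative.eval b₀)) := by
    rw [hd]
    by_contra hn
    have h1 : Ideal.Quotient.factor (J_le_maximalIdeal hV v)
        (Ideal.Quotient.mk (J (I := I) (π := π) v) (P.derivative.eval a₀)) = 0 := by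
      rw [Ideal.Quotient.factor_mk, Ideal.Quotient.eq_zero_iff_mem]
      exact hn
    have h2 := (hu.map (Ideal.Quotient.factor (J_le_maximalIdeal hV v)))
    rw [h1] at h2
    exact not_isUnit_zero h2
  obtain ⟨d, hd'⟩ := hdu.exists_right_inv
  obtain ⟨U₁, hU₁, d, rfl⟩ := TopCat.Presheaf.exists_germ_eq (F := V.presheaf) (x := v) d
  obtain ⟨W₁, hW₁, i₁, j₁, hij₁⟩ := TopCat.Presheaf.germ_eq V.presheaf v hf' hf c (P₁.eval b₀) hce
  obtain ⟨g₀, hg₀, hle₀⟩ := exists_basic hV v (U₁ ⊓ W₁) ⟨hU₁, hW₁⟩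
  have hmul : V.presheaf.germ _ v hg₀
      ((V.presheaf.map (homOfLE ((hle₀.trans inf_le_right).trans j₁.le)).op).hom (P₁.derivative.eval b₀) *
        (V.presheaf.map (homOfLE (hle₀.trans inf_le_left)).op).hom d) = V.presheaf.germ _ v hg₀ 1 := by
    rw [map_mul, map_one, ← hd']
    congr 1 <;> exact TopCat.Presheaf.germ_res_apply V.presheaf _ v hg₀ _
  obtain ⟨W₂, hW₂, i₂, j₂, hij₂⟩ := TopCat.Presheaf.germ_eq V.presheaf v hg₀ hg₀ _ _ hmul
  obtain ⟨g, hg, hle⟩ := exists_basic hV v W₂ hW₂
  let ρ : H π f →+* H π g := (V.presheaf.map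
    (homOfLE (((hle.trans i₂.le).trans (hle₀.trans inf_le_right)).trans j₁.le)).op).hom
  let χ : H π g →+* V.presheaf.stalk v := (V.presheaf.germ _ v hg).hom
  have hχρ : ∀ b, χ (ρ b) = ψ b := fun b => TopCat.Presheaf.germ_res_apply V.presheaf _ v hg b
  let K := I.map (HensSch.secMap π (PrimeSpectrum.basicOpen g))
  haveI : HenselianRing (H π g) K := (hV.2.2 g).2.1
  have h₀' : (P₁.map ρ).eval (ρ b₀) ∈ K := by
    rw [Polynomial.eval_map, Polynomial.eval₂_at_apply]
    have hρ : (V.presheaf.map (homOfLE (((hle.trans i₂.le).trans (hle₀.trans inf_le_right)).trans i₁.le)).op).hom c =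
        ρ (P₁.eval b₀) := by
      have h' := congrArg (V.presheaf.map (homOfLE ((hle.trans i₂.le).trans (hle₀.trans inf_le_right))).op).hom hij₁
      rw [← ConcreteCategory.comp_apply, ← ConcreteCategory.comp_apply, ← V.presheaf.map_comp,
        ← V.presheaf.map_comp] at h'
      exact h'
    rw [← hρ]
    exact res_mem_map _ hc
  have hu' : IsUnit (Ideal.Quotient.mk K ((P₁.map ρ).derivative.eval (ρ b₀))) := by
    refine IsUnit.map _ (IsUnit.of_mul_eq_one
      ((V.presheaf.map (homOfLE ((hle.trans i₂.le).trans (hle₀.trans inf_le_left))).op).hom d) ?_)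
    rw [Polynomial.derivative_map, Polynomial.eval_map, Polynomial.eval₂_at_apply]
    have h' := congrArg (V.presheaf.map (homOfLE hle).op).hom hij₂
    simp only [map_mul, map_one] at h'
    rw [← ConcreteCategory.comp_apply, ← ConcreteCategory.comp_apply, ← ConcreteCategory.comp_apply,
      ← ConcreteCategory.comp_apply, ← V.presheaf.map_comp, ← V.presheaf.map_comp, ← V.presheaf.map_comp] at h'
    exact h'
  obtain ⟨a, ha, haK⟩ := HenselianRing.is_henselian (I := K) (P₁.map ρ) (hP₁m.map ρ) (ρ b₀) h₀' hu'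
  refine ⟨χ a, ?_, ?_⟩
  · have h : (P₁.map ρ).map χ = P := by
      rw [Polynomial.map_map, ← hP₁]
      congr 1
      exact RingHom.ext hχρ
    show P.eval (χ a) = 0
    rw [← h, Polynomial.eval_map, Polynomial.eval₂_at_apply, ha.eq_zero, map_zero]
  · rw [← hb₀, ← show χ (ρ b₀) = ψ b₀ from hχρ b₀, ← map_sub]
    have h := Ideal.mem_map_of_mem χ haK
    rw [Ideal.map_map, show χ.comp (HensSch.secMap π (PrimeSpectrum.basicOpen g)) =
      (Stalk.φ π v).comp (toStalk A (π.base v)) from RingHom.ext (germ_secMap v _ hg)] at h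
    rw [J, Ideal.map_map]
    exact h

include hV in
/-- The local ring of an affine henselian spectrum is a pair henselization of the local ring of the spectrum. -/
theorem isPairHenselization_sph :
    letI := (Stalk.φ π v).toAlgebra
    Hens2.IsPairHenselization (R A (π.base v)) (I.map (toStalk A (π.base v))) (V.presheaf.stalk v) := by
  letI := (Stalk.φ π v).toAlgebra
  refine ⟨henselianRing_J hV v, fun C _ K g hC hg => ?_⟩
  let g' : A →+* C := g.comp (toStalk A (π.base v))
  have hg' : I.map g' ≤ K := by rwa [← Ideal.map_map]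
  have hgu : ∀ f : A, v ∈ HensSch.dOpen π f → IsUnit (g' f) := fun f hf => by
    refine IsUnit.map g ?_
    have h := (isUnit_germ_specRes_iff ⊤ (π.base v) trivial f).mpr hf
    convert h using 1
    simp [specRes]
  have hh : ∀ f : A, ∀ hf : v ∈ HensSch.dOpen π f, ∃! h : H π f →+* C,
      h.comp (HensSch.secMap π (PrimeSpectrum.basicOpen f)) = g' := fun f hf =>
    (hV.2.2 f).2.2 C K g' hC hg' (hgu f hf)
  choose h hh₁ hh₂ using hh
  have hmul : ∀ (f f' : A), v ∈ HensSch.dOpen π f → v ∈ HensSch.dOpen π f' → v ∈ HensSch.dOpen π (f * f') :=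
    fun f f' hf hf' hm => ((π.base v : PrimeSpectrum A).2.mem_or_mem hm).elim hf hf'
  -- independence of the basic open
  have hres : ∀ (f g : A) (hf : v ∈ HensSch.dOpen π f) (hg : v ∈ HensSch.dOpen π g)
      (hle : HensSch.dOpen π g ≤ HensSch.dOpen π f),
      (h g hg).comp (V.presheaf.map (homOfLE hle).op).hom = h f hf := by
    intro f g hf hg hle
    refine hh₂ f hf _ (RingHom.ext fun a => ?_)
    rw [RingHom.comp_apply, RingHom.comp_apply]
    rw [secMap_res hle]
    exact RingHom.congr_fun (hh₁ g hg) a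
  have key : ∀ U : OpenNhds v, ∃ k : (V.presheaf.obj (op U.1) : Type u) →+* C,
      ∀ (f : A) (hf : v ∈ HensSch.dOpen π f) (hle : HensSch.dOpen π f ≤ U.1),
        (h f hf).comp (V.presheaf.map (homOfLE hle).op).hom = k := by
    intro U
    obtain ⟨f₀, hf₀, hle₀⟩ := exists_basic hV v U.1 U.2
    refine ⟨(h f₀ hf₀).comp (V.presheaf.map (homOfLE hle₀).op).hom, fun f hf hle => ?_⟩
    obtain ⟨g₁, hg₁, hle₁⟩ := exists_basic hV v (HensSch.dOpen π f₀ ⊓ HensSch.dOpen π f) ⟨hf₀, hf⟩
    rw [← hres f g₁ hf hg₁ (hle₁.trans inf_le_right), ← hres f₀ g₁ hf₀ hg₁ (hle₁.trans inf_le_left),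
      RingHom.comp_assoc, RingHom.comp_assoc]
    congr 1
    rw [← CommRingCat.hom_comp, ← CommRingCat.hom_comp, ← V.presheaf.map_comp, ← V.presheaf.map_comp]
    rfl
  choose k hk using key
  let c : Cocone ((OpenNhds.inclusion v).op ⋙ V.presheaf) :=
    { pt := CommRingCat.of C
      ι :=
        { app := fun U => CommRingCat.ofHom (k U.unop)
          naturality := fun U W i => by
            refine CommRingCat.hom_ext ?_
            obtain ⟨f, hf, hle⟩ := exists_basic hV v W.unop.1 W.unop.2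
            have hle' : HensSch.dOpen π f ≤ U.unop.1 :=
              hle.trans ((OpenNhds.inclusion v).map i.unop).le
            show (k W.unop).comp (V.presheaf.map ((OpenNhds.inclusion v).map i.unop).op).hom = k U.unop
            rw [← hk W.unop f hf hle, ← hk U.unop f hf hle', RingHom.comp_assoc]
            congr 1
            rw [← CommRingCat.hom_comp, ← V.presheaf.map_comp]
            rfl } }
  let m : V.presheaf.stalk v →+* C := (colimit.desc _ c).hom
  have hm : ∀ (f : A) (hf : v ∈ HensSch.dOpen π f) (b : H π f), m (V.presheaf.germ _ v hf b) = h f hf b := by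
    intro f hf b
    have h1 : m (V.presheaf.germ _ v hf b) = k ⟨HensSch.dOpen π f, hf⟩ b :=
      ConcreteCategory.congr_hom (colimit.ι_desc c (op ⟨HensSch.dOpen π f, hf⟩)) b
    rw [h1, ← hk ⟨HensSch.dOpen π f, hf⟩ f hf le_rfl]
    show h f hf ((V.presheaf.map (𝟙 (op (HensSch.dOpen π f)))).hom b) = _
    rw [V.presheaf.map_id]
    rfl
  have hma : ∀ a : A, m (Stalk.φ π v (toStalk A (π.base v) a)) = g' a := fun a => by
    have h1 : v ∈ HensSch.dOpen π 1 := (Ideal.ne_top_iff_one _).mp (π.base v : PrimeSpectrum A).2.ne_top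
    rw [← germ_secMap v _ h1 a, hm 1 h1]
    exact RingHom.congr_fun (hh₁ 1 h1) a
  have huniq : ∀ m' : V.presheaf.stalk v →+* C,
      (∀ a : A, m' (Stalk.φ π v (toStalk A (π.base v) a)) = g' a) → m' = m := by
    intro m' hm'
    refine RingHom.ext fun t => ?_
    obtain ⟨U, hU, b, rfl⟩ := TopCat.Presheaf.exists_germ_eq (F := V.presheaf) (x := v) t
    obtain ⟨f, hf, hle⟩ := exists_basic hV v U hU
    rw [← TopCat.Presheaf.germ_res_apply V.presheaf (homOfLE hle) v hf b, hm f hf]
    refine RingHom.congr_fun (hh₂ f hf (m'.comp (V.presheaf.germ _ v hf).hom) (RingHom.ext fun a => ?_)) _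
    rw [RingHom.comp_apply, RingHom.comp_apply, germ_secMap v _ hf a]
    exact hm' a
  refine ⟨m, RingHom.ext fun r => ?_, fun m' hm' => huniq m' fun a => RingHom.congr_fun hm' _⟩
  obtain ⟨U, hU, b, rfl⟩ := TopCat.Presheaf.exists_germ_eq (F := (Spec (CommRingCat.of A)).presheaf)
    (x := π.base v) r
  obtain ⟨_, ⟨f, rfl⟩, hf, hfU⟩ := PrimeSpectrum.isTopologicalBasis_basic_opens.exists_subset_of_mem_open
    (a := (π.base v : PrimeSpectrum A)) hU U.isOpen
  let D : (Spec (CommRingCat.of A)).Opens := PrimeSpectrum.basicOpen f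
  rw [← TopCat.Presheaf.germ_res_apply (Spec (CommRingCat.of A)).presheaf (homOfLE (show D ≤ U from hfU))
    (π.base v) hf b]
  refine RingHom.congr_fun (specRes_ext D f rfl
    ((m.comp (Stalk.φ π v)).comp ((Spec (CommRingCat.of A)).presheaf.germ D (π.base v) hf).hom)
    (g.comp ((Spec (CommRingCat.of A)).presheaf.germ D (π.base v) hf).hom) (RingHom.ext fun a => ?_)) _
  have h1 : (Spec (CommRingCat.of A)).presheaf.germ D (π.base v) hf (specRes D a) = toStalk A (π.base v) a :=
    TopCat.Presheaf.germ_res_apply (Spec (CommRingCat.of A)).presheaf _ _ hf _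
  show m (Stalk.φ π v ((Spec (CommRingCat.of A)).presheaf.germ D (π.base v) hf (specRes D a))) =
    g ((Spec (CommRingCat.of A)).presheaf.germ D (π.base v) hf (specRes D a))
  rw [h1]
  exact hma a

end Sph

section Henselization

variable {X : Scheme.{u}} {Y : Set X} {Xh : LocallyRingedSpace.{u}} {ι : Xh ⟶ X.toLocallyRingedSpace}

/-- The local rings of the henselization of a scheme along a closed subset. -/
theorem exists_isPairHenselization (hh : HensSch.IsHenselizationAlong X Y Xh ι) (x : Xh) :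
    ∃ L : Ideal (X.presheaf.stalk (ι.base x)),
      PrimeSpectrum.zeroLocus (L : Set (X.presheaf.stalk (ι.base x))) = (X.fromSpecStalk (ι.base x)).base ⁻¹' Y ∧
      (letI := (Stalk.φ ι x).toAlgebra
       Hens2.IsPairHenselization (X.presheaf.stalk (ι.base x)) L (Xh.presheaf.stalk x)) := by
  obtain ⟨hY, -, hr, hch⟩ := hh
  obtain ⟨A, _, j, _, hxj, V, v, _, π, hv, hcomm, hV⟩ := hch (ι.base x) (hr ▸ ⟨x, rfl⟩)
  obtain ⟨q, rfl⟩ : x ∈ Set.range v.base := by rw [hv]; exact hxj
  set K := PrimeSpectrum.vanishingIdeal (j.base ⁻¹' Y)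
  let p : Spec (CommRingCat.of A) := π.base q
  have hpt : (π ≫ j.toLRSHom).base q = (v ≫ ι).base q := by rw [hcomm]
  -- the two isomorphisms of local rings
  let a₁ : X.presheaf.stalk (ι.base (v.base q)) ⟶ (Spec (CommRingCat.of A)).presheaf.stalk p :=
    X.presheaf.stalkSpecializes (specializes_of_eq hpt) ≫ j.stalkMap p
  haveI : IsIso (X.presheaf.stalkSpecializes (specializes_of_eq hpt)) :=
    ⟨X.presheaf.stalkSpecializes (specializes_of_eq hpt.symm), by simp, by simp⟩
  haveI : IsIso (j.stalkMap p) := inferInstance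
  let e₁ : R A p ≃+* X.presheaf.stalk (ι.base (v.base q)) := (asIso a₁).symm.commRingCatIsoToRingEquiv
  haveI : IsIso (v.stalkMap q) := inferInstance
  let e₂ : V.presheaf.stalk q ≃+* Xh.presheaf.stalk (v.base q) := (asIso (v.stalkMap q)).symm.commRingCatIsoToRingEquiv
  have hsq : ι.stalkMap (v.base q) ≫ v.stalkMap q = a₁ ≫ π.stalkMap q := by
    have h := LocallyRingedSpace.stalkMap_congr_hom _ _ hcomm q
    rw [LocallyRingedSpace.stalkMap_comp, LocallyRingedSpace.stalkMap_comp] at h
    exact h.trans (Category.assoc _ _ _).symm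
  refine ⟨(K.map (toStalk A p)).map e₁.toRingHom, ?_, ?_⟩
  · -- the zero locus
    have h1 : Spec.map a₁ ≫ X.fromSpecStalk (ι.base (v.base q)) = (Spec (CommRingCat.of A)).fromSpecStalk p ≫ j := by
      rw [Spec.map_comp, Category.assoc, Scheme.SpecMap_stalkSpecializes_fromSpecStalk]
      exact Scheme.SpecMap_stalkMap_fromSpecStalk j
    have hK : PrimeSpectrum.zeroLocus (K : Set A) = j.base ⁻¹' Y := by
      rw [PrimeSpectrum.zeroLocus_vanishingIdeal_eq_closure]
      exact (hY.preimage j.continuous).closure_eq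
    have h2 : X.fromSpecStalk (ι.base (v.base q)) =
        Spec.map (CommRingCat.ofHom (e₁.toRingHom.comp (toStalk A p))) ≫ j := by
      rw [← cancel_epi (Spec.map a₁), h1, Spec.fromSpecStalk_eq]
      rw [← Category.assoc, ← Spec.map_comp]
      congr 2
      ext a
      show toStalk A p a = a₁ (inv a₁ (toStalk A p a))
      rw [← ConcreteCategory.comp_apply, IsIso.inv_hom_id]
      rfl
    rw [h2, Scheme.Hom.comp_base, TopCat.coe_comp, Set.preimage_comp, ← hK, Ideal.map_map]
    exact (PrimeSpectrum.preimage_comap_zeroLocus (e₁.toRingHom.comp (toStalk A p)) (K : Set A)).symm ▸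
      (PrimeSpectrum.zeroLocus_span _)
  · letI := (Stalk.φ ι (v.base q)).toAlgebra
    letI := (Stalk.φ π q).toAlgebra
    refine isPairHenselization_of_equiv e₁ e₂ (fun r => ?_) rfl (isPairHenselization_sph hV q)
    show (inv (v.stalkMap q)) (π.stalkMap q r) = ι.stalkMap (v.base q) (inv a₁ r)
    have h := congrArg (fun k => inv a₁ ≫ k ≫ inv (v.stalkMap q)) hsq
    simp only [Category.assoc, IsIso.hom_inv_id, Category.comp_id, IsIso.inv_hom_id_assoc] at h
    exact (ConcreteCategory.congr_hom h r).symm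

/-- The local rings of the henselization along the zero locus of an ideal of the base. -/
theorem isPairHenselization_of_zeroLocus {B : Type u} [CommRing B] {s : X ⟶ Spec (CommRingCat.of B)}
    (I : Ideal B) (hh : HensSch.IsHenselizationAlong X (s.base ⁻¹' PrimeSpectrum.zeroLocus (I : Set B)) Xh ι)
    (x : Xh) :
    letI := (Stalk.φ ι x).toAlgebra
    Hens2.IsPairHenselization (X.presheaf.stalk (ι.base x))
      (I.map (Spec.preimage (X.fromSpecStalk (ι.base x) ≫ s)).hom) (Xh.presheaf.stalk x) := by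
  letI := (Stalk.φ ι x).toAlgebra
  obtain ⟨L, hL, hP⟩ := exists_isPairHenselization hh x
  refine (Groth.Agent.S1971.result _ L _ ?_ _).mp hP
  rw [hL, ← Set.preimage_comp, ← TopCat.coe_comp, ← Scheme.Hom.comp_base]
  conv_lhs => rw [← Spec.map_preimage (X.fromSpecStalk (ι.base x) ≫ s)]
  exact (PrimeSpectrum.preimage_comap_zeroLocus _ (I : Set B)).trans (PrimeSpectrum.zeroLocus_span _).symm

end Henselization

end Groth.L05.HensSch.StalkHens
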