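import Groth.Agent.L05.HensSch.Exact
import Groth.Agent.L16.HomSh.FullyFaithful
import Groth.Agent.L19.SupportPullback
import Groth.Agent.L21.Mod.Stalks
import Groth.Agent.L16.CohClosedPush
import Groth.Agent.L16.Exist.PushPullTorsion
import Groth.Agent.L16.Existence.FormalBasic
import Groth.Agent.S1994
import Mathlib.RingTheory.Filtration

/-!
# The truncations of a coherent module on the henselization of a scheme
-/

set_option autoImplicit false
set_option linter.style.haveILetI false
set_option backward.isDefEq.respectTransparency false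
set_option backward.isDefEq.respectTransparency.types false

universe u

open CategoryTheory CategoryTheory.Limits AlgebraicGeometry Opposite TopologicalSpace TensorProduct IsLocalRing Formal

noncomputable section

namespace Groth.L05.HensSch.Tower

section Algebra

theorem bijective_tmul_one_of_killed {R S : Type u} [CommRing R] [CommRing S] [Algebra R S] (K : Ideal R)
    (hKS : Function.Bijective (Ideal.quotientMap (K.map (algebraMap R S)) (algebraMap R S) Ideal.le_comap_map))
    {M : Type u} [AddCommGroup M] [Module R M] (hM : ∀ r ∈ K, ∀ m : M, r • m = 0) :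
    Function.Bijective (fun m : M => (1 : S) ⊗ₜ[R] m) := by
  classical
  have hex : ∀ s : S, ∃ r : R, s - algebraMap R S r ∈ K.map (algebraMap R S) := fun s => by
    obtain ⟨q, hq⟩ := hKS.2 (Ideal.Quotient.mk _ s)
    obtain ⟨r, rfl⟩ := Ideal.Quotient.mk_surjective q
    rw [Ideal.quotientMap_mk, Ideal.Quotient.eq] at hq
    exact ⟨r, by simpa using neg_mem hq⟩
  choose r hr using hex
  have hmem : ∀ a : R, algebraMap R S a ∈ K.map (algebraMap R S) → a ∈ K := fun a ha => by
    have h : Ideal.quotientMap (K.map (algebraMap R S)) (algebraMap R S) Ideal.le_comap_map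
        (Ideal.Quotient.mk K a) = Ideal.quotientMap (K.map (algebraMap R S)) (algebraMap R S) Ideal.le_comap_map 0 := by
      rw [Ideal.quotientMap_mk, map_zero, Ideal.Quotient.eq_zero_iff_mem]
      exact ha
    exact Ideal.Quotient.eq_zero_iff_mem.mp (hKS.1 h)
  have hwd : ∀ (s : S) (a : R), s - algebraMap R S a ∈ K.map (algebraMap R S) → ∀ m : M, r s • m = a • m := by
    intro s a ha m
    rw [← sub_eq_zero, ← sub_smul]
    refine hM _ (hmem _ ?_) m
    rw [map_sub]
    have := sub_mem ha (hr s)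
    rwa [sub_sub_sub_cancel_left] at this
  let β : S →ₗ[R] M →ₗ[R] M :=
    LinearMap.mk₂ R (fun s m => r s • m)
      (fun s₁ s₂ m => by
        rw [hwd (s₁ + s₂) (r s₁ + r s₂) (by rw [map_add, add_sub_add_comm]; exact add_mem (hr _) (hr _)), add_smul])
      (fun c s m => by
        rw [hwd (c • s) (c * r s) (by rw [map_mul, Algebra.smul_def, ← mul_sub]; exact Ideal.mul_mem_left _ _ (hr s)),
          mul_smul])
      (fun s m₁ m₂ => smul_add _ _ _) (fun c s m => smul_comm _ _ _)
  let σ : S ⊗[R] M →ₗ[R] M := TensorProduct.lift β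
  have h1 : ∀ m : M, σ ((1 : S) ⊗ₜ m) = m := fun m => by
    show r 1 • m = m
    rw [hwd 1 1 (by simp), one_smul]
  refine ⟨fun a b h => by rw [← h1 a, ← h1 b]; exact congrArg σ h, fun t => ?_⟩
  have hk : ∀ (s : S), s ∈ K.map (algebraMap R S) → ∀ m : M, s ⊗ₜ[R] m = 0 := fun s hs => by
    refine Submodule.span_induction ?_ ?_ ?_ ?_ hs
    · rintro _ ⟨a, ha, rfl⟩ m
      rw [Algebra.algebraMap_eq_smul_one, TensorProduct.smul_tmul, hM a ha, TensorProduct.tmul_zero]
    · exact fun m => TensorProduct.zero_tmul _ _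
    · intro x y _ _ hx hy m
      rw [TensorProduct.add_tmul, hx, hy, add_zero]
    · intro c x _ hx m
      rw [show (c • x) ⊗ₜ[R] m = c • (x ⊗ₜ[R] m) from (TensorProduct.smul_tmul' c x m).symm, hx, smul_zero]
  induction t using TensorProduct.induction_on with
  | zero => exact ⟨0, TensorProduct.tmul_zero _ _⟩
  | tmul s m =>
    refine ⟨r s • m, ?_⟩
    show (1 : S) ⊗ₜ[R] (r s • m) = s ⊗ₜ[R] m
    rw [← TensorProduct.smul_tmul, ← Algebra.algebraMap_eq_smul_one]
    exact (sub_eq_zero.mp ((TensorProduct.sub_tmul _ _ _).symm.trans (hk _ (hr s) m))).symm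
  | add a b ha hb =>
    obtain ⟨x, rfl⟩ := ha
    obtain ⟨y, rfl⟩ := hb
    exact ⟨x + y, TensorProduct.tmul_add _ _ _⟩

theorem eq_zero_of_forall_lTensor_mkQ {R S : Type u} [CommRing R] [CommRing S] [IsLocalRing S] [IsNoetherianRing S]
    [Algebra R S] (K : Ideal R) (hK : K.map (algebraMap R S) ≠ ⊤) {M : Type u} [AddCommGroup M] [Module R M]
    [Module.Finite R M] (t : S ⊗[R] M)
    (ht : ∀ n : ℕ, (Submodule.mkQ (K ^ n • ⊤ : Submodule R M)).lTensor S t = 0) : t = 0 := by
  haveI : Module.Finite S (S ⊗[R] M) := Module.Finite.base_change R S M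
  have key : t ∈ ⨅ n : ℕ, (K.map (algebraMap R S)) ^ n • (⊤ : Submodule S (S ⊗[R] M)) := by
    refine Submodule.mem_iInf _ |>.mpr fun n => ?_
    have hex : Function.Exact ((K ^ n • ⊤ : Submodule R M).subtype.lTensor S)
        ((Submodule.mkQ (K ^ n • ⊤ : Submodule R M)).lTensor S) :=
      lTensor_exact S (LinearMap.exact_subtype_mkQ _) (Submodule.mkQ_surjective _)
    obtain ⟨w, rfl⟩ := (hex t).mp (ht n)
    rw [← Ideal.map_pow]
    have hmk : ∀ m : M, m ∈ (K ^ n • ⊤ : Submodule R M) → ∀ s : S,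
        s ⊗ₜ[R] m ∈ ((K ^ n).map (algebraMap R S)) • (⊤ : Submodule S (S ⊗[R] M)) := by
      intro m hm
      refine Submodule.smul_induction_on hm (fun a ha x _ s => ?_) (fun x y hx hy s => ?_)
      · rw [← TensorProduct.smul_tmul, Algebra.smul_def, ← smul_eq_mul, ← TensorProduct.smul_tmul']
        exact Submodule.smul_mem_smul (Ideal.mem_map_of_mem _ ha) trivial
      · rw [TensorProduct.tmul_add]; exact add_mem (hx s) (hy s)
    clear ht
    induction w using TensorProduct.induction_on with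
    | zero => rw [map_zero]; exact zero_mem _
    | tmul s m => rw [LinearMap.lTensor_tmul]; exact hmk _ m.2 s
    | add a b ha hb => rw [map_add]; exact add_mem ha hb
  rwa [Ideal.iInf_pow_smul_eq_bot_of_isLocalRing _ hK, Submodule.mem_bot] at key

end Algebra

section Stalks

variable {A : Type u} [CommRing A] {X : Scheme.{u}} [X.Over (Spec (CommRingCat.of A))]

/-- `A` maps to the local rings of `X`. -/
abbrev c (y : X) : A →+* X.presheaf.stalk y :=
  (Spec.preimage (X.fromSpecStalk y ≫ (X ↘ Spec (CommRingCat.of A)))).hom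

theorem c_eq (y : X) (a : A) :
    c (A := A) y a = X.presheaf.germ ⊤ y trivial (Coh.toGlobal (X ↘ Spec (CommRingCat.of A)) a) := by
  have h : Spec.preimage (X.fromSpecStalk y ≫ (X ↘ Spec (CommRingCat.of A))) =
      (Scheme.ΓSpecIso (CommRingCat.of A)).inv ≫ (X ↘ Spec (CommRingCat.of A)).appTop ≫
        X.presheaf.germ ⊤ y trivial := by
    refine Spec.map_injective ?_
    rw [Spec.map_preimage, Spec.map_comp, Spec.map_comp, Category.assoc, ← Scheme.fromSpecStalk_toSpecΓ,
      Category.assoc, ← Scheme.toSpecΓ_naturality_assoc]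
    simp
  rw [c, h]
  rfl

theorem stalk_smulMod (E : X.Modules) (a : A) (y : X) (p : (Groth.L00.Stk.F X y).obj E) :
    (Groth.L00.Stk.F X y).map (smulMod A E a) p = c (A := A) y a • p := by
  obtain ⟨U, hU, m, rfl⟩ := Groth.L00.StalkTensor.exists_germ (Groth.L00.Tensor.pre E) y p
  refine (DerSch.stalkFunctor_map_germ y (smulMod A E a) U hU m).trans ?_
  show E.presheaf.germ U y hU ((show Γ(X, U) from Coh.resTop X (op U)
    (Coh.toGlobal (X ↘ Spec (CommRingCat.of A)) a)) • (show Γ(E, U) from m)) = _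
  refine (Groth.L00.StalkTensor.germ_smul' (Groth.L00.Tensor.pre E) y hU _ m).trans ?_
  rw [c_eq]
  congr 1
  exact TopCat.Presheaf.germ_res_apply X.presheaf _ y hU _

theorem mkQ_factor (I : Ideal A) (n : ℕ) (G : X.Modules) (y : X) :
    ∃ w : (Groth.L00.Stk.F X y).obj (modPow I n G) ⟶
        ModuleCat.of (X.presheaf.stalk y) (((Groth.L00.Stk.F X y).obj G) ⧸
          ((I.map (c (A := A) y)) ^ n • ⊤ : Submodule (X.presheaf.stalk y) ((Groth.L00.Stk.F X y).obj G))),
      (Groth.L00.Stk.F X y).map (modPowπ I n G) ≫ w = ModuleCat.ofHom (Submodule.mkQ _) := by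
  set q : (Groth.L00.Stk.F X y).obj G ⟶ ModuleCat.of (X.presheaf.stalk y) (((Groth.L00.Stk.F X y).obj G) ⧸
      ((I.map (c (A := A) y)) ^ n • ⊤ : Submodule (X.presheaf.stalk y) ((Groth.L00.Stk.F X y).obj G))) :=
    ModuleCat.ofHom (Submodule.mkQ _)
  have hq : ∀ b ∈ I ^ n, smulMod A G b ≫ (Groth.L00.Sky.adj y).homEquiv G _ q = 0 := by
    intro b hb
    rw [← Adjunction.homEquiv_naturality_left]
    have h0 : (Groth.L00.Stk.F X y).map (smulMod A G b) ≫ q = 0 := by
      ext p
      show Submodule.mkQ _ ((Groth.L00.Stk.F X y).map (smulMod A G b) p) = 0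
      rw [stalk_smulMod, Submodule.mkQ_apply, Submodule.Quotient.mk_eq_zero, ← Ideal.map_pow]
      exact Submodule.smul_mem_smul (Ideal.mem_map_of_mem _ hb) trivial
    rw [h0, ← (Groth.L00.Sky.adj y).homAddEquiv_apply, map_zero]
  obtain ⟨w', hw'⟩ := Groth.L16.Existence.modPow_desc I _ hq
  refine ⟨((Groth.L00.Sky.adj y).homEquiv _ _).symm w', ?_⟩
  rw [← Adjunction.homEquiv_naturality_left_symm, hw', Equiv.symm_apply_apply]

end Stalks

section Push

variable {X : Scheme.{u}} {Y : Set X} {Xh : LocallyRingedSpace.{u}} {ι : Xh ⟶ X.toLocallyRingedSpace}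

/-- The stalk of a direct image at the image of a point maps to the stalk at the point. -/
def pushEval (H : ModSite.Mod Xh.sheaf) (z : Xh) :
    ↑((show X.Modules from (HensSch.pushMod ι).obj H).presheaf.stalk (ι.base z)) →+ Stalk.St H z :=
  (TopCat.Presheaf.stalkPushforward AddCommGrpCat.{u} ι.base (PresheafOfModules.presheaf (Stalk.pre H)) z).hom

theorem pushEval_germ (H : ModSite.Mod Xh.sheaf) (z : Xh) (U : X.Opens) (hz : ι.base z ∈ U)
    (m : (Stalk.pre H).obj (op ((Opens.map ι.base).obj U))) :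
    pushEval H z ((show X.Modules from (HensSch.pushMod ι).obj H).presheaf.germ U (ι.base z) hz m) =
      Stalk.germ H z (U := (Opens.map ι.base).obj U) hz m :=
  ConcreteCategory.congr_hom
    (TopCat.Presheaf.stalkPushforward_germ AddCommGrpCat.{u} ι.base (PresheafOfModules.presheaf (Stalk.pre H)) U z hz) m

theorem pushEval_bijective (hh : HensSch.IsHenselizationAlong X Y Xh ι) (H : ModSite.Mod Xh.sheaf) (z : Xh) :
    Function.Bijective (pushEval (ι := ι) H z) := by
  haveI := TopCat.Presheaf.stalkPushforward.stalkPushforward_iso_of_isInducing AddCommGrpCat.{u} (f := ι.base)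
    hh.2.1.isInducing (PresheafOfModules.presheaf (Stalk.pre H)) z
  exact ConcreteCategory.bijective_of_isIso
    (TopCat.Presheaf.stalkPushforward AddCommGrpCat.{u} ι.base (PresheafOfModules.presheaf (Stalk.pre H)) z)

theorem subsingleton_push_of_notMem (hh : HensSch.IsHenselizationAlong X Y Xh ι) (H : ModSite.Mod Xh.sheaf)
    (y : X) (hy : y ∉ Y) :
    Subsingleton ↑((show X.Modules from (HensSch.pushMod ι).obj H).presheaf.stalk y) := by
  set P := (show X.Modules from (HensSch.pushMod ι).obj H)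
  suffices ∀ p : ↑(P.presheaf.stalk y), p = 0 from ⟨fun a b => (this a).trans (this b).symm⟩
  intro p
  obtain ⟨U, hU, m, rfl⟩ := TopCat.Presheaf.exists_germ_eq (F := P.presheaf) (x := y) p
  let W : X.Opens := U ⊓ ⟨Yᶜ, hh.1.isOpen_compl⟩
  rw [← TopCat.Presheaf.germ_res_apply P.presheaf (homOfLE (inf_le_left : W ≤ U)) y ⟨hU, hy⟩]
  refine Eq.trans (congrArg _ ?_) (map_zero _)
  exact Stalk.section_ext H (U := (Opens.map ι.base).obj W) _ 0 fun z hz =>
    absurd (hh.2.2.1 ▸ ⟨z, rfl⟩ : ι.base z ∈ Y) hz.2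

theorem pushEval_unit (E : X.Modules) (z : Xh) (p : (Groth.L00.Stk.F X (ι.base z)).obj E) :
    ((Stalk.stalkIso ι z).app E).hom (pushEval ((HensSch.pullMod ι).obj E) z
      ((Groth.L00.Stk.F X (ι.base z)).map ((HensSch.pullPushAdj ι).unit.app E) p)) =
      ((ModuleCat.extendRestrictScalarsAdj (Stalk.φ ι z)).unit.app ((Groth.L00.Stk.F X (ι.base z)).obj E)).hom p := by
  obtain ⟨U, hU, m, rfl⟩ := Groth.L00.StalkTensor.exists_germ (Groth.L00.Tensor.pre E) (ι.base z) p
  rw [← Stalk.stalkIso_germ ι z E hU m]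
  congr 1
  refine (congrArg (pushEval ((HensSch.pullMod ι).obj E) z) (DerSch.stalkFunctor_map_germ (ι.base z)
    ((HensSch.pullPushAdj ι).unit.app E) U hU m)).trans ?_
  exact pushEval_germ ((HensSch.pullMod ι).obj E) z U hU _

end Push

section Main

variable {A : Type u} [CommRing A] (I : Ideal A) {X : Scheme.{u}} [X.Over (Spec (CommRingCat.of A))]
  {Xh : LocallyRingedSpace.{u}} {ι : Xh ⟶ X.toLocallyRingedSpace}
  (hh : HensSch.IsHenselizationAlong X ((X ↘ Spec (CommRingCat.of A)).base ⁻¹' PrimeSpectrum.zeroLocus (I : Set A))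
    Xh ι)

include hh in
theorem isPairHenselization (z : Xh) :
    letI := (Stalk.φ ι z).toAlgebra
    Hens2.IsPairHenselization (X.presheaf.stalk (ι.base z)) (I.map (c (A := A) (ι.base z))) (Xh.presheaf.stalk z) :=
  StalkHens.isPairHenselization_of_zeroLocus I hh z

include hh in
/-- The unit is an isomorphism on modules killed by a power of the ideal. -/
theorem isIso_unit_of_killed {E : X.Modules} (n : ℕ) (hE : ∀ a ∈ I ^ n, smulMod A E a = 0) :
    IsIso ((HensSch.pullPushAdj ι).unit.app E) := by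
  set η := (HensSch.pullPushAdj ι).unit.app E
  suffices h : ∀ y, Function.Bijective ((Groth.L00.Stk.F X y).map η) by
    rw [Groth.L21.Mod.isIso_iff_stalk_bijective]
    exact fun y => h y
  intro y
  have hkill : ∀ r ∈ (I ^ n).map (c (A := A) y), ∀ p : (Groth.L00.Stk.F X y).obj E, r • p = 0 := by
    intro r hr p
    revert p
    refine Submodule.span_induction ?_ ?_ ?_ ?_ hr
    · rintro _ ⟨a, ha, rfl⟩ p
      rw [← stalk_smulMod, hE a ha]
      obtain ⟨U, hU, m, rfl⟩ := Groth.L00.StalkTensor.exists_germ (Groth.L00.Tensor.pre E) y p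
      exact (DerSch.stalkFunctor_map_germ y (0 : E ⟶ E) U hU m).trans (map_zero _)
    · exact fun p => zero_smul _ p
    · intro a b _ _ ha hb p; rw [add_smul, ha, hb, add_zero]
    · intro a b _ hb p; rw [smul_eq_mul, mul_smul, hb, smul_zero]
  by_cases hy : y ∈ Set.range ι.base
  · obtain ⟨z, rfl⟩ := hy
    letI := (Stalk.φ ι z).toAlgebra
    have hq := (Groth.Agent.S1958.result _ _ _ (isPairHenselization I hh z)).2 n
    have hb := bijective_tmul_one_of_killed (S := Xh.presheaf.stalk z) (((I.map (c (A := A) (ι.base z))) ^ n)) hq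
      (M := (Groth.L00.Stk.F X (ι.base z)).obj E) (by rw [← Ideal.map_pow]; exact hkill)
    have h3 : Function.Bijective (((Stalk.stalkIso ι z).app E).hom ∘ pushEval ((HensSch.pullMod ι).obj E) z) :=
      (ConcreteCategory.bijective_of_isIso ((Stalk.stalkIso ι z).app E).hom).comp
        (pushEval_bijective hh _ z)
    refine (h3.of_comp_iff' _).mp ?_
    have heq : (((Stalk.stalkIso ι z).app E).hom ∘ pushEval ((HensSch.pullMod ι).obj E) z) ∘
        ((Groth.L00.Stk.F X (ι.base z)).map η) = fun p => (1 : Xh.presheaf.stalk z) ⊗ₜ p := funext fun p =>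
      pushEval_unit E z p
    rw [heq]
    exact hb
  · have hyY : y ∉ (X ↘ Spec (CommRingCat.of A)).base ⁻¹' PrimeSpectrum.zeroLocus (I : Set A) := hh.2.2.1 ▸ hy
    haveI h1 : Subsingleton ((Groth.L00.Stk.F X y).obj ((HensSch.pushMod ι).obj ((HensSch.pullMod ι).obj E))) :=
      subsingleton_push_of_notMem hh _ y hyY
    obtain ⟨a, ha, hay⟩ : ∃ a ∈ I, IsUnit (c (A := A) y a) := by
      by_contra hc
      push Not at hc
      refine hyY ?_
      have h2 : (Spec.map (Spec.preimage (X.fromSpecStalk y ≫ (X ↘ Spec (CommRingCat.of A))))).base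
          (closedPoint (X.presheaf.stalk y)) ∈ PrimeSpectrum.zeroLocus (I : Set A) :=
        fun a ha => hc a ha
      rw [Spec.map_preimage, Scheme.Hom.comp_apply, Scheme.fromSpecStalk_closedPoint] at h2
      exact h2
    have h2 : Subsingleton ((Groth.L00.Stk.F X y).obj E) := ⟨fun p q => by
      have h0 : ∀ r : (Groth.L00.Stk.F X y).obj E, r = 0 := fun r => by
        have h := hkill _ (Ideal.mem_map_of_mem _ (Ideal.pow_mem_pow ha n)) r
        rw [map_pow] at h
        exact (hay.pow n).smul_eq_zero.mp h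
      rw [h0 p, h0 q]⟩
    exact ⟨fun p q _ => h2.elim p q, fun b => ⟨0, h1.elim _ _⟩⟩

include hh in
/-- A section of the inverse image of a coherent module is zero if all its truncations are. -/
theorem hom_eq_zero [IsNoetherianRing A] [IsLocallyNoetherian X] {F G : X.Modules} (hG : Coh.IsCoh G)
    (a : F ⟶ (HensSch.pushMod ι).obj ((HensSch.pullMod ι).obj G))
    (ha : ∀ n : ℕ, a ≫ (HensSch.pushMod ι).map ((HensSch.pullMod ι).map (modPowπ I (n + 1) G)) = 0) :
    a = 0 := by
  refine Scheme.Modules.hom_ext _ _ fun U => ?_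
  ext m
  refine Stalk.section_ext ((HensSch.pullMod ι).obj G) (U := (Opens.map ι.base).obj U) _ 0 fun z hz => ?_
  rw [map_zero]
  set τ := Stalk.germ ((HensSch.pullMod ι).obj G) z (U := (Opens.map ι.base).obj U) hz ((a.app U).hom m)
  have hτ : ∀ n : ℕ, (Stalk.F Xh z).map ((HensSch.pullMod ι).map (modPowπ I (n + 1) G)) τ = 0 := fun n => by
    refine (Stalk.F_map_germ z _ (U := (Opens.map ι.base).obj U) hz _).trans ?_
    have h := congrArg (fun k : F ⟶ (HensSch.pushMod ι).obj ((HensSch.pullMod ι).obj (modPow I (n + 1) G)) =>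
      (Scheme.Modules.Hom.app k U).hom m) (ha n)
    exact (congrArg (Stalk.germ _ z (U := (Opens.map ι.base).obj U) hz) h).trans (map_zero _)
  letI := (Stalk.φ ι z).toAlgebra
  have hP := isPairHenselization I hh z
  haveI : IsNoetherianRing (X.presheaf.stalk (ι.base z)) := inferInstance
  haveI : IsNoetherianRing (Xh.presheaf.stalk z) := (Groth.Agent.S1994.result _ _ _ hP).1
  haveI : Module.Finite (X.presheaf.stalk (ι.base z)) ((Groth.L00.Stk.F X (ι.base z)).obj G) :=
    Groth.L19.SupportPullback.finite_stalk G hG (ι.base z)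
  have hne : (I.map (c (A := A) (ι.base z))).map (algebraMap (X.presheaf.stalk (ι.base z)) (Xh.presheaf.stalk z)) ≠ ⊤ := by
    haveI := hP.1
    exact fun h => (IsLocalRing.maximalIdeal.isMaximal _).ne_top (top_le_iff.mp
      (h.ge.trans (HenselianRing.jac.trans (IsLocalRing.jacobson_eq_maximalIdeal _ bot_ne_top).le)))
  apply (ConcreteCategory.bijective_of_isIso ((Stalk.stalkIso ι z).app G).hom).1
  rw [map_zero]
  refine eq_zero_of_forall_lTensor_mkQ (I.map (c (A := A) (ι.base z))) hne _ fun n => ?_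
  rcases n with _ | n
  · have htop : ((I.map (c (A := A) (ι.base z))) ^ 0 • ⊤ : Submodule (X.presheaf.stalk (ι.base z))
        ((Groth.L00.Stk.F X (ι.base z)).obj G)) = ⊤ := by
      rw [pow_zero, Ideal.one_eq_top, Submodule.top_smul]
    rw [show Submodule.mkQ _ = (0 : (Groth.L00.Stk.F X (ι.base z)).obj G →ₗ[X.presheaf.stalk (ι.base z)] _) from
      LinearMap.ext fun p => by
        rw [Submodule.mkQ_apply, LinearMap.zero_apply, Submodule.Quotient.mk_eq_zero, htop]; trivial,
      LinearMap.lTensor_zero, LinearMap.zero_apply]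
  obtain ⟨w, hw⟩ := mkQ_factor I (n + 1) G (ι.base z)
  have h1 := ConcreteCategory.congr_hom ((Stalk.stalkIso ι z).hom.naturality (modPowπ I (n + 1) G)) τ
  rw [← show ((Groth.L00.Stk.F X (ι.base z)).map (modPowπ I (n + 1) G) ≫ w).hom = Submodule.mkQ _ from
    congrArg ModuleCat.Hom.hom hw, ModuleCat.hom_comp, LinearMap.lTensor_comp, LinearMap.comp_apply]
  refine Eq.trans (congrArg (w.hom.lTensor (Xh.presheaf.stalk z)) ?_) (map_zero _)
  refine h1.symm.trans ?_
  rw [ConcreteCategory.comp_apply]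
  exact (congrArg (fun t => (Stalk.stalkIso ι z).hom.app (modPow I (n + 1) G) t) (hτ n)).trans (map_zero _)

end Main

section Adic

variable {A : Type u} [CommRing A] [IsNoetherianRing A] (I : Ideal A) [IsAdicComplete I A] {X : Scheme.{u}}
  [X.Over (Spec (CommRingCat.of A))] [IsProper (X ↘ Spec (CommRingCat.of A))]
  {Xh : LocallyRingedSpace.{u}} {ι : Xh ⟶ X.toLocallyRingedSpace}
  (hh : HensSch.IsHenselizationAlong X ((X ↘ Spec (CommRingCat.of A)).base ⁻¹' PrimeSpectrum.zeroLocus (I : Set A))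
    Xh ι)

include hh in
/-- Over a complete base every morphism into `ι_* ι^* G` is algebraic, uniquely. -/
theorem existsUnique_comp_unit {F G : X.Modules} (hF : Coh.IsCoh F) (hG : Coh.IsCoh G)
    (a : F ⟶ (HensSch.pushMod ι).obj ((HensSch.pullMod ι).obj G)) :
    ∃! φ : F ⟶ G, φ ≫ (HensSch.pullPushAdj ι).unit.app G = a := by
  haveI : IsLocallyNoetherian X := LocallyOfFiniteType.isLocallyNoetherian (X ↘ Spec (CommRingCat.of A))
  haveI : CompactSpace X := QuasiCompact.compactSpace_of_compactSpace (X ↘ Spec (CommRingCat.of A))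
  haveI : ∀ n : ℕ, IsIso ((HensSch.pullPushAdj ι).unit.app (modPow I (n + 1) G)) := fun n =>
    isIso_unit_of_killed I hh (n + 1) fun b hb => Groth.L16.Existence.smulMod_modPow_eq_zero I G hb
  let π : ∀ n : ℕ, (show X.Modules from (HensSch.pushMod ι).obj ((HensSch.pullMod ι).obj G)) ⟶ modPow I (n + 1) G :=
    fun n => (HensSch.pushMod ι).map ((HensSch.pullMod ι).map (modPowπ I (n + 1) G)) ≫
      inv ((HensSch.pullPushAdj ι).unit.app (modPow I (n + 1) G))
  have hπ : ∀ n, π (n + 1) ≫ modPowTrans I (n + 1) G = π n := fun n => by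
    have h := ((HensSch.pullPushAdj ι).unit.naturality (modPowTrans I (n + 1) G))
    simp only [π, Category.assoc]
    rw [← cancel_mono ((HensSch.pullPushAdj ι).unit.app (modPow I (n + 1) G))]
    simp only [Category.assoc, IsIso.inv_hom_id, Category.comp_id]
    erw [h]
    rw [IsIso.inv_hom_id_assoc, Functor.comp_map, ← Functor.map_comp, ← Functor.map_comp, modPowπ_trans]
  have hηπ : ∀ n, (HensSch.pullPushAdj ι).unit.app G ≫ π n = modPowπ I (n + 1) G := fun n => by
    have h := ((HensSch.pullPushAdj ι).unit.naturality (modPowπ I (n + 1) G))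
    simp only [π]
    rw [← Category.assoc]
    erw [← h]
    rw [Functor.id_map, Category.assoc, IsIso.hom_inv_id, Category.comp_id]
  have hs : ClSub.IsProperOver (X ↘ Spec (CommRingCat.of A)) (CohB1.support F ∩ CohB1.support G) :=
    Groth.L16.HomSh.isProperOver_mono _ ⟨isClosed_univ, inferInstance⟩
      ((Groth.L16.CohSupport.isClosed_support _ hF.2).inter (Groth.L16.CohSupport.isClosed_support _ hG.2))
      (Set.subset_univ _)
  obtain ⟨φ, hφ, hφu⟩ := Groth.L16.HomSh.existsUnique_hom I hF hG hs (fun n => a ≫ π n)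
    (fun n => by rw [Category.assoc, hπ])
  refine ⟨φ, ?_, fun φ' hφ' => hφu φ' fun n => by
    show a ≫ π n = φ' ≫ _
    rw [← hφ', Category.assoc, hηπ]⟩
  show φ ≫ _ = a
  rw [← sub_eq_zero]
  refine hom_eq_zero I hh hG _ fun n => ?_
  rw [← cancel_mono (inv ((HensSch.pullPushAdj ι).unit.app (modPow I (n + 1) G))), Category.assoc, zero_comp]
  show (φ ≫ _ - a) ≫ π n = 0
  rw [Preadditive.sub_comp, Category.assoc, hηπ, hφ n, sub_self]

include hh in
/-- Full faithfulness of the inverse image. -/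
theorem pullMod_map_bijective {F G : X.Modules} (hF : Coh.IsCoh F) (hG : Coh.IsCoh G) :
    Function.Bijective
      ((HensSch.pullMod ι).map : (F ⟶ G) → ((HensSch.pullMod ι).obj F ⟶ (HensSch.pullMod ι).obj G)) := by
  let e := (HensSch.pullPushAdj ι).homEquiv F ((HensSch.pullMod ι).obj G)
  have key : ∀ φ : F ⟶ G, e ((HensSch.pullMod ι).map φ) = φ ≫ (HensSch.pullPushAdj ι).unit.app G := fun φ => by
    rw [Adjunction.homEquiv_unit]
    exact ((HensSch.pullPushAdj ι).unit.naturality φ).symm
  refine ⟨fun φ φ' h => (existsUnique_comp_unit I hh hF hG (e ((HensSch.pullMod ι).map φ))).unique (key φ).symm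
    ((key φ').symm.trans (congrArg e h.symm)), fun ψ => ?_⟩
  obtain ⟨φ, hφ, -⟩ := existsUnique_comp_unit I hh hF hG (e ψ)
  exact ⟨φ, e.injective ((key φ).trans hφ)⟩

include hh in
/-- Global sections of the inverse image. -/
theorem unit_app_top_bijective {F : X.Modules} (hF : Coh.IsCoh F) :
    Function.Bijective (((HensSch.pullPushAdj ι).unit.app F).val.app (op ⊤)) := by
  haveI : IsLocallyNoetherian X := LocallyOfFiniteType.isLocallyNoetherian (X ↘ Spec (CommRingCat.of A))
  have hO : Coh.IsCoh (Coh.structureModule X) := Groth.L16.CohClosedPush.isCoh_structure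
  set P := (show X.Modules from (HensSch.pushMod ι).obj ((HensSch.pullMod ι).obj F))
  set η : F ⟶ P := (HensSch.pullPushAdj ι).unit.app F
  -- global sections as morphisms from the structure sheaf
  have hsec : ∀ (M : X.Modules) (t : M.val.obj (op ⊤)), ∃ φ : Coh.structureModule X ⟶ M,
      ((SheafOfModules.unitHomEquiv M) φ).val (op ⊤) = t := fun M t => by
    refine ⟨(SheafOfModules.unitHomEquiv M).symm (PresheafOfModules.sectionsMk
      (fun U => (M.val.map (homOfLE (le_top : U.unop ≤ ⊤)).op).hom t) fun {U V} i =>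
        ((PresheafOfModules.map_comp_apply M.val (homOfLE (le_top : U.unop ≤ ⊤)).op i t).symm.trans rfl)), ?_⟩
    rw [Equiv.apply_symm_apply]
    exact LinearMap.congr_fun (congrArg ModuleCat.Hom.hom (M.val.map_id (op ⊤))) t
  have hext : ∀ {M : X.Modules} {φ φ' : Coh.structureModule X ⟶ M},
      ((SheafOfModules.unitHomEquiv M) φ).val (op ⊤) = ((SheafOfModules.unitHomEquiv M) φ').val (op ⊤) → φ = φ' := by
    intro M φ φ' h
    refine (SheafOfModules.unitHomEquiv M).injective (PresheafOfModules.sections_ext _ _ fun U => ?_)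
    rw [← PresheafOfModules.sections_property ((SheafOfModules.unitHomEquiv M) φ) (homOfLE (le_top : U.unop ≤ ⊤)).op,
      ← PresheafOfModules.sections_property ((SheafOfModules.unitHomEquiv M) φ') (homOfLE (le_top : U.unop ≤ ⊤)).op, h]
  refine ⟨fun s s' h => ?_, fun t => ?_⟩
  · obtain ⟨φ, rfl⟩ := hsec F s
    obtain ⟨φ', rfl⟩ := hsec F s'
    have he : φ ≫ η = φ' ≫ η := hext h
    rw [(existsUnique_comp_unit I hh hO hF (φ ≫ η)).unique (y₁ := φ) (y₂ := φ') rfl he.symm]
  · obtain ⟨ψ, rfl⟩ := hsec P t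
    obtain ⟨φ, hφ, -⟩ := existsUnique_comp_unit I hh hO hF ψ
    exact ⟨((SheafOfModules.unitHomEquiv F) φ).val (op ⊤),
      congrArg (fun k => ((SheafOfModules.unitHomEquiv P) k).val (op ⊤)) hφ⟩

end Adic

end Groth.L05.HensSch.Tower
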